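import Groth.Agent.FibTop.Basic
import Mathlib.Topology.LocallyClosed

/-!
Constructibility of the loci where a constructible set is dense, closed or locally closed in the
fibre (EGA IV 9.5.3, 9.6.1).
-/

set_option autoImplicit false

universe u

open CategoryTheory CategoryTheory.Limits AlgebraicGeometry Topology Set

namespace Groth.Agent.FibTop

variable {X S X' S' : Scheme.{u}}

section BaseChange

variable {f : X ⟶ S} {f' : X' ⟶ S'} {q : X' ⟶ X} {h : S' ⟶ S}

set_option backward.isDefEq.respectTransparency false in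
lemma exists_fibre_map (sq : IsPullback q f' f h) (s : S') :
    ∃ φ : f'.fiber s ⟶ f.fiber (h s), Function.Surjective φ ∧ IsOpenMap φ ∧
      φ ≫ f.fiberι (h s) = f'.fiberι s ≫ q := by
  have hsq := isPullback_fiberToSpecResidueField_of_isPullback sq s
  haveI : Surjective (Spec.map (h.residueFieldMap s)) :=
    ⟨fun t => ⟨Classical.arbitrary _, Subsingleton.elim _ _⟩⟩
  haveI : IsIntegral (Spec (S.residueField (h s))) := inferInstance
  haveI h1 : Surjective (pullback.map _ _ _ _ q (Spec.map (h.residueFieldMap s)) h sq.w.symm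
      (by simp) : f'.fiber s ⟶ f.fiber (h s)) :=
    MorphismProperty.of_isPullback (P := @Surjective) hsq.flip ‹_›
  haveI : UniversallyOpen (Spec.map (h.residueFieldMap s)) := inferInstance
  haveI h2 : UniversallyOpen (pullback.map _ _ _ _ q (Spec.map (h.residueFieldMap s)) h sq.w.symm
      (by simp) : f'.fiber s ⟶ f.fiber (h s)) :=
    MorphismProperty.of_isPullback (P := @UniversallyOpen) hsq.flip ‹_›
  exact ⟨_, h1.surj, Scheme.Hom.isOpenMap _, pullback.lift_fst _ _ _⟩

lemma exists_point_over (sq : IsPullback q f' f h) {s : S'} {z : X} (hz : f z = h s) :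
    ∃ z' : X', q z' = z ∧ f' z' = s := by
  obtain ⟨φ, hφ, -, hcomm⟩ := exists_fibre_map sq s
  obtain ⟨w, rfl⟩ : z ∈ range (f.fiberι (h s)) := by rw [f.range_fiberι]; exact hz
  obtain ⟨w', rfl⟩ := hφ w
  refine ⟨f'.fiberι s w', by rw [← Scheme.Hom.comp_apply, ← hcomm]; rfl, ?_⟩
  have := mem_range_self (f := f'.fiberι s) w'
  rwa [f'.range_fiberι] at this

lemma preimage_clF (f : X ⟶ S) (E : Set X) (s : S) :
    f.fiberι s ⁻¹' clF f E s = closure (f.fiberι s ⁻¹' E) := by
  rw [(f.fiberι s).isEmbedding.closure_eq_preimage_closure_image, Set.image_preimage_eq_inter_range,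
    f.range_fiberι, clF, Set.preimage_inter]
  refine Set.inter_eq_left.2 fun w _ => ?_
  have := mem_range_self (f := f.fiberι s) w
  rwa [f.range_fiberι] at this

/-- Closing inside a fibre commutes with base change. -/
theorem mem_clF_iff (sq : IsPullback q f' f h) {E : Set X} {s : S'} {z : X'} (hz : f' z = s) :
    z ∈ clF f' (q ⁻¹' E) s ↔ q z ∈ clF f E (h s) := by
  obtain ⟨φ, -, hφ, hcomm⟩ := exists_fibre_map sq s
  obtain ⟨w, rfl⟩ : z ∈ range (f'.fiberι s) := by rw [f'.range_fiberι]; exact hz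
  have e : ∀ w, f.fiberι (h s) (φ w) = q (f'.fiberι s w) := fun w => by
    rw [← Scheme.Hom.comp_apply, hcomm]; rfl
  rw [← Set.mem_preimage (f := f'.fiberι s), preimage_clF, ← e, ← Set.mem_preimage
    (f := f.fiberι (h s)), preimage_clF, ← Set.mem_preimage (f := φ),
    hφ.preimage_closure_eq_closure_preimage φ.continuous]
  have : φ ⁻¹' (f.fiberι (h s) ⁻¹' E) = f'.fiberι s ⁻¹' (q ⁻¹' E) := by
    ext w; simp only [Set.mem_preimage, e]
  rw [this]

end BaseChange

/-- An assignment of a set to two subsets of a scheme over a base and a point of the base. -/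
abbrev FibOp : Type (u + 1) :=
  ∀ ⦃X S : Scheme.{u}⦄, (X ⟶ S) → Set X → Set X → S → Set X

/-- The assignment commutes with base change. -/
def BC (G : FibOp.{u}) : Prop :=
  ∀ ⦃X S X' S' : Scheme.{u}⦄ ⦃f : X ⟶ S⦄ ⦃f' : X' ⟶ S'⦄ ⦃q : X' ⟶ X⦄ ⦃h : S' ⟶ S⦄,
    IsPullback q f' f h → ∀ (E E' : Set X) (s : S') (z : X'), f' z = s →
      (z ∈ G f' (q ⁻¹' E) (q ⁻¹' E') s ↔ q z ∈ G f E E' (h s))

/-- The assignment is generically constant. -/
def Gen (G : FibOp.{u}) : Prop :=
  ∀ ⦃X S : Scheme.{u}⦄ [IsIntegral S] [IsNoetherian S] (f : X ⟶ S) [LocallyOfFiniteType f]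
    [QuasiCompact f] (E E' : Set X), IsConstructible E → IsConstructible E' →
    ∃ (U : S.Opens) (T : Set X), genericPoint S ∈ U ∧ IsConstructible T ∧
      ∀ s ∈ U, ∀ z, f z = s → (z ∈ G f E E' s ↔ z ∈ T)

/-- The points whose fibre misses the assigned set. -/
def locus (G : FibOp.{u}) (f : X ⟶ S) (E E' : Set X) : Set S :=
  {s | ∀ z, f z = s → z ∉ G f E E' s}

variable {G : FibOp.{u}}

theorem locus_preimage (hG : BC G) {f : X ⟶ S} {f' : X' ⟶ S'} {q : X' ⟶ X} {h : S' ⟶ S}
    (sq : IsPullback q f' f h) (E E' : Set X) :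
    locus G f' (q ⁻¹' E) (q ⁻¹' E') = h ⁻¹' locus G f E E' := by
  ext s
  constructor
  · intro H z hz hmem
    obtain ⟨z', rfl, hz'⟩ := exists_point_over sq hz
    exact H z' hz' ((hG sq E E' s z' hz').2 hmem)
  · intro H z hz hmem
    refine H (q z) ?_ ((hG sq E E' s z hz).1 hmem)
    rw [← hz, ← Scheme.Hom.comp_apply, sq.w]; rfl

/-- Over an integral Noetherian base the locus or its complement contains a nonempty open. -/
theorem interior_or_compl (hG : Gen G) [IsIntegral S] [IsNoetherian S] (f : X ⟶ S)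
    [LocallyOfFiniteType f] [QuasiCompact f] {E E' : Set X} (hE : IsConstructible E)
    (hE' : IsConstructible E') :
    (interior (locus G f E E')).Nonempty ∨ (interior (locus G f E E')ᶜ).Nonempty := by
  obtain ⟨U, T, hηU, hT, hU⟩ := hG f E E' hE hE'
  haveI : LocallyOfFinitePresentation f :=
    LocallyOfFinitePresentation.iff_locallyOfFiniteType.2 ‹_›
  have key : ∀ s ∈ U, s ∈ locus G f E E' ↔ s ∉ f '' T := fun s hs =>
    ⟨fun H ⟨z, hzT, hzs⟩ => H z hzs ((hU s hs z hzs).2 hzT),
      fun H z hz hmem => H ⟨z, (hU s hs z hz).1 hmem, hz⟩⟩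
  have hC : IsConstructible (f '' T) := f.isConstructible_image hT
  by_cases hη : genericPoint S ∈ f '' T
  · obtain ⟨V, hV, hmem, hsub⟩ := ConsPropLib.exists_open_subset_of_generic hC hη
    exact Or.inr ⟨genericPoint S, interior_maximal
      (show V ∩ (U : Set S) ⊆ (locus G f E E')ᶜ from fun s hs h3 => (key s hs.2).1 h3 (hsub hs.1))
      (hV.inter U.2) ⟨hmem, hηU⟩⟩
  · obtain ⟨V, hV, hmem, hsub⟩ := ConsPropLib.exists_open_subset_of_generic hC.compl hη
    exact Or.inl ⟨genericPoint S, interior_maximal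
      (show V ∩ (U : Set S) ⊆ locus G f E E' from fun s hs => (key s hs.2).2 (hsub hs.1))
      (hV.inter U.2) ⟨hmem, hηU⟩⟩

theorem isConstructible_locus (hb : BC G) (hG : Gen G) [IsNoetherian S] (f : X ⟶ S)
    [LocallyOfFiniteType f] [QuasiCompact f] {E E' : Set X} (hE : IsConstructible E)
    (hE' : IsConstructible E') : IsConstructible (locus G f E E') := by
  refine ConsPropLib.isConstructible_of_integral fun T ι _ _ _ => ?_
  rw [← locus_preimage hb (IsPullback.of_hasPullback f ι)]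
  exact interior_or_compl hG (pullback.snd f ι) ((pullback.fst f ι).isConstructible_preimage hE)
    ((pullback.fst f ι).isConstructible_preimage hE')

set_option backward.isDefEq.respectTransparency false in
/-- Over any base the locus is locally constructible. -/
theorem isLocallyConstructible_locus (hb : BC G) (hG : Gen G) (f : X ⟶ S)
    [LocallyOfFinitePresentation f] [QuasiCompact f] [QuasiSeparated f] {E E' : Set X}
    (hE : IsLocallyConstructible E) (hE' : IsLocallyConstructible E') :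
    IsLocallyConstructible (locus G f E E') := by
  refine IsLocallyConstructible.of_isOpenCover ConsPairLib.affineOpens_isOpenCover fun W => ?_
  obtain ⟨I, _, _, D, c, e, ⟨hc⟩, _, _⟩ := ConsPairLib.exists_noetherian_limit Γ(S, W)
  have hW : IsAffineOpen (W : S.Opens) := W.2
  let p : c.pt ⟶ S := e.hom ≫ hW.isoSpec.inv ≫ (W : S.Opens).ι
  haveI : IsAffine c.pt := .of_isIso e.hom
  haveI : ∀ (i j : I) (a : i ⟶ j), IsAffineHom (D.map a) := fun i j a => inferInstance
  let u : pullback f p ⟶ c.pt := pullback.snd f p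
  haveI : CompactSpace ↥(pullback f p) := QuasiCompact.compactSpace_of_compactSpace u
  haveI : QuasiSeparatedSpace ↥(pullback f p) := quasiSeparatedSpace_of_quasiSeparated u
  have hE₁ : IsConstructible (pullback.fst f p ⁻¹' E) :=
    (LimTop.isLocallyConstructible_preimage _ hE).isConstructible
  have hE₂ : IsConstructible (pullback.fst f p ⁻¹' E') :=
    (LimTop.isLocallyConstructible_preimage _ hE').isConstructible
  obtain ⟨i, X₀, u₀, g, hu₀, hX₀, hX₀', hsq⟩ := LimLib.hasModel hc u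
  haveI : QuasiCompact u₀ := quasiCompact_of_compactSpace u₀
  haveI : QuasiSeparated u₀ := QuasiSeparated.of_quasiSeparatedSpace u₀
  let Dj := LimLib.bcDiag D i u₀
  haveI : ∀ (j k : Over i) (a : j ⟶ k), IsAffineHom (Dj.map a) := fun j k a =>
    (inferInstanceAs (IsAffineHom ((LimLib.bcDiag D i u₀).map a)))
  haveI : CompactSpace ↥(Dj.obj (Over.mk (𝟙 i))) :=
    QuasiCompact.compactSpace_of_compactSpace (pullback.snd u₀ (D.map (𝟙 i)))
  haveI : QuasiSeparatedSpace ↥(Dj.obj (Over.mk (𝟙 i))) :=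
    quasiSeparatedSpace_of_quasiSeparated (pullback.snd u₀ (D.map (𝟙 i)))
  have hlim := LimLib.isLimitBcCone hc hsq
  obtain ⟨j₁, -, Z₁, hZ₁, e₁⟩ :=
    LimTop.exists_isConstructible_preimage hlim (Over.mk (𝟙 i)) (Z := pullback.fst f p ⁻¹' E) hE₁
  obtain ⟨j₂, -, Z₂, hZ₂, e₂⟩ :=
    LimTop.exists_isConstructible_preimage hlim (Over.mk (𝟙 i)) (Z := pullback.fst f p ⁻¹' E') hE₂
  obtain ⟨k, a, b, -⟩ := IsCofilteredOrEmpty.cone_objs j₁ j₂
  haveI : LocallyOfFiniteType (pullback.snd u₀ (D.map k.hom)) :=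
    MorphismProperty.pullback_snd _ _ inferInstance
  haveI : QuasiCompact (pullback.snd u₀ (D.map k.hom)) :=
    MorphismProperty.pullback_snd _ _ inferInstance
  haveI : IsNoetherian (D.obj k.left) := by infer_instance
  have hsqk : IsPullback ((LimLib.bcCone hsq).π.app k) u (pullback.snd u₀ (D.map k.hom))
      (c.π.app k.left) := LimLib.isPullback_bcCone hsq k
  have hC := isConstructible_locus hb hG (pullback.snd u₀ (D.map k.hom))
    ((Dj.map a).isConstructible_preimage hZ₁) ((Dj.map b).isConstructible_preimage hZ₂)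
  have e3 : (LimLib.bcCone hsq).π.app k ⁻¹' (Dj.map a ⁻¹' Z₁) = pullback.fst f p ⁻¹' E := by
    rw [← e₁]; exact LimTop.preimage_π _ _ _
  have e4 : (LimLib.bcCone hsq).π.app k ⁻¹' (Dj.map b ⁻¹' Z₂) = pullback.fst f p ⁻¹' E' := by
    rw [← e₂]; exact LimTop.preimage_π _ _ _
  have h1 := locus_preimage hb (IsPullback.of_hasPullback f p) E E'
  have h2 := locus_preimage hb hsqk (Dj.map a ⁻¹' Z₁) (Dj.map b ⁻¹' Z₂)
  rw [e3, e4] at h2
  let h : ((W : S.Opens) : Scheme.{u}) ⟶ D.obj k.left := hW.isoSpec.hom ≫ e.inv ≫ c.π.app k.left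
  have hp : (W : S.Opens).ι = (hW.isoSpec.hom ≫ e.inv) ≫ p := by simp [p]
  have : (W : S.Opens).ι ⁻¹' locus G f E E' = h ⁻¹' locus G (pullback.snd u₀ (D.map k.hom))
      (Dj.map a ⁻¹' Z₁) (Dj.map b ⁻¹' Z₂) := by
    rw [hp, Scheme.Hom.comp_base, TopCat.coe_comp, Set.preimage_comp, ← h1, h2]
    simp [h, Set.preimage_comp]
  show IsLocallyConstructible ((W : S.Opens).ι ⁻¹' locus G f E E')
  rw [this]
  exact ProConsPre.isLocallyConstructible_preimage h hC.isLocallyConstructible

/-- `E'` is not inside the closure of `E` in the fibre. -/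
def denseOp : FibOp.{u} := fun _ _ f E E' s => E' \ clF f E s

/-- The closure of `E` in the fibre adds points. -/
def closedOp : FibOp.{u} := fun _ _ f E _ s => clF f E s \ E

/-- The closure of the frontier of `E` in the fibre meets `E`. -/
def locClosedOp : FibOp.{u} := fun _ _ f E _ s => clF f (clF f E s \ E) s ∩ E

theorem bc_denseOp : BC denseOp.{u} := fun X S X' S' f f' q h sq E E' s z hz => by
  simp only [denseOp, Set.mem_sdiff, Set.mem_preimage, mem_clF_iff sq hz]

theorem bc_closedOp : BC closedOp.{u} := fun X S X' S' f f' q h sq E E' s z hz => by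
  simp only [closedOp, Set.mem_sdiff, Set.mem_preimage, mem_clF_iff sq hz]

theorem bc_locClosedOp : BC locClosedOp.{u} := fun X S X' S' f f' q h sq E E' s z hz => by
  have : clF f' (clF f' (q ⁻¹' E) s \ q ⁻¹' E) s = clF f' (q ⁻¹' (clF f E (h s) \ E)) s := by
    refine clF_congr f' (Set.ext fun w => ?_)
    simp only [Set.mem_inter_iff, Set.mem_sdiff, Set.mem_preimage, Set.mem_singleton_iff]
    refine ⟨fun H => ⟨⟨(mem_clF_iff sq H.2).1 H.1.1, H.1.2⟩, H.2⟩,
      fun H => ⟨⟨(mem_clF_iff sq H.2).2 H.1.1, H.1.2⟩, H.2⟩⟩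
  simp only [locClosedOp, this, Set.mem_inter_iff, Set.mem_preimage, mem_clF_iff sq hz]

theorem gen_denseOp : Gen denseOp.{u} := fun X S _ _ f _ _ E E' hE hE' => by
  haveI : IsLocallyNoetherian X := LocallyOfFiniteType.isLocallyNoetherian f
  haveI : CompactSpace X := QuasiCompact.compactSpace_of_compactSpace f
  haveI : IsNoetherian X := ⟨⟩
  obtain ⟨U, hη, hU⟩ := exists_open_clF_eq f hE
  refine ⟨U, E' \ closure E, hη,
    hE'.sdiff (ConstrLib.isConstructible_of_isClosed isClosed_closure), fun s hs z hz => ?_⟩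
  simp only [denseOp, hU s hs, Set.mem_sdiff, Set.mem_inter_iff, Set.mem_preimage,
    Set.mem_singleton_iff, hz, and_true]

theorem gen_closedOp : Gen closedOp.{u} := fun X S _ _ f _ _ E E' hE hE' => by
  haveI : IsLocallyNoetherian X := LocallyOfFiniteType.isLocallyNoetherian f
  haveI : CompactSpace X := QuasiCompact.compactSpace_of_compactSpace f
  haveI : IsNoetherian X := ⟨⟩
  obtain ⟨U, hη, hU⟩ := exists_open_clF_eq f hE
  refine ⟨U, closure E \ E, hη,
    (ConstrLib.isConstructible_of_isClosed isClosed_closure).sdiff hE, fun s hs z hz => ?_⟩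
  simp only [closedOp, hU s hs, Set.mem_sdiff, Set.mem_inter_iff, Set.mem_preimage,
    Set.mem_singleton_iff, hz, and_true]

theorem gen_locClosedOp : Gen locClosedOp.{u} := fun X S _ _ f _ _ E E' hE hE' => by
  haveI : IsLocallyNoetherian X := LocallyOfFiniteType.isLocallyNoetherian f
  haveI : CompactSpace X := QuasiCompact.compactSpace_of_compactSpace f
  haveI : IsNoetherian X := ⟨⟩
  have hG : IsConstructible (closure E \ E) :=
    (ConstrLib.isConstructible_of_isClosed isClosed_closure).sdiff hE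
  obtain ⟨U, hη, hU⟩ := exists_open_clF_eq f hE
  obtain ⟨V, hηV, hV⟩ := exists_open_clF_eq f hG
  refine ⟨U ⊓ V, closure (closure E \ E) ∩ E, ⟨hη, hηV⟩,
    (ConstrLib.isConstructible_of_isClosed isClosed_closure).inter hE, fun s hs z hz => ?_⟩
  have : clF f (clF f E s \ E) s = clF f (closure E \ E) s := by
    refine clF_congr f ?_
    rw [hU s hs.1]
    ext w; simp only [Set.mem_inter_iff, Set.mem_sdiff]; tauto
  simp only [locClosedOp, this, hV s hs.2, Set.mem_inter_iff, Set.mem_preimage,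
    Set.mem_singleton_iff, hz, and_true]

variable (f : X ⟶ S) (E E' : Set X) (s : S)

lemma mem_locus_dense :
    s ∈ locus denseOp f E E' ↔ E' ∩ f ⁻¹' {s} ⊆ closure (E ∩ f ⁻¹' {s}) := by
  refine ⟨fun H z hz => ?_, fun H z hz hmem => hmem.2 ⟨H ⟨hmem.1, hz⟩, hz⟩⟩
  by_contra h
  exact H z hz.2 ⟨hz.1, fun h' => h h'.1⟩

lemma mem_locus_closed :
    s ∈ locus closedOp f E E' ↔ IsClosed (Subtype.val ⁻¹' E : Set ↥(f ⁻¹' {s})) := by
  rw [← closure_subset_iff_isClosed, IsInducing.subtypeVal.closure_eq_preimage_closure_image,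
    Subtype.image_preimage_coe, Set.inter_comm]
  refine ⟨fun H w hw => by_contra fun h => H w.1 w.2 ⟨⟨hw, w.2⟩, h⟩,
    fun H z hz hmem => hmem.2 (H (a := ⟨z, hz⟩) hmem.1.1)⟩

lemma mem_locus_locClosed :
    s ∈ locus locClosedOp f E E' ↔ IsLocallyClosed (Subtype.val ⁻¹' E : Set ↥(f ⁻¹' {s})) := by
  have hcl : ∀ A : Set ↥(f ⁻¹' {s}), closure A =
      Subtype.val ⁻¹' closure (Subtype.val '' A) := fun A =>
    IsInducing.subtypeVal.closure_eq_preimage_closure_image A
  have hval : ∀ A : Set X, Subtype.val '' (Subtype.val ⁻¹' A : Set ↥(f ⁻¹' {s})) = A ∩ f ⁻¹' {s} :=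
    fun A => by rw [Subtype.image_preimage_coe, Set.inter_comm]
  have h1 : closure (Subtype.val ⁻¹' E : Set ↥(f ⁻¹' {s})) \ Subtype.val ⁻¹' E =
      Subtype.val ⁻¹' (clF f E s \ E) := by
    rw [hcl, hval]
    ext w; simp [clF, w.2]
  have h2 : IsLocallyClosed (Subtype.val ⁻¹' E : Set ↥(f ⁻¹' {s})) ↔
      IsClosed (Subtype.val ⁻¹' (clF f E s \ E) : Set ↥(f ⁻¹' {s})) := by
    rw [← h1, isLocallyClosed_iff_isOpen_coborder, coborder, isOpen_compl_iff]
  rw [h2, ← mem_locus_closed f (clF f E s \ E) E' s]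
  constructor
  · intro H z hz hmem
    refine H z hz ⟨hmem.1, by_contra fun h => ?_⟩
    refine hmem.2 ⟨⟨closure_minimal (fun w hw => ?_) isClosed_closure hmem.1.1, hz⟩, h⟩
    exact hw.1.1.1
  · intro H z hz hmem
    exact H z hz ⟨hmem.1, fun h => h.2 hmem.2⟩

end Groth.Agent.FibTop
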