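import Groth.Agent.FibTop.RingDense
import Groth.Agent.ConsPairLib.Loci
import Groth.Agent.LimTop.Constructible
import Mathlib.AlgebraicGeometry.Morphisms.UniversallyOpen
import Mathlib.AlgebraicGeometry.Fiber

/-!
Closures inside fibres, over a generic open of the base and under base change.
-/

set_option autoImplicit false

universe u

open CategoryTheory CategoryTheory.Limits AlgebraicGeometry Topology Set

namespace Groth.Agent.FibTop

variable {X S X' S' : Scheme.{u}}

/-- The closure, inside the fibre over `s`, of the trace of `E`. -/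
def clF (f : X ⟶ S) (E : Set X) (s : S) : Set X := closure (E ∩ f ⁻¹' {s}) ∩ f ⁻¹' {s}

lemma clF_congr (f : X ⟶ S) {E E' : Set X} {s : S} (h : E ∩ f ⁻¹' {s} = E' ∩ f ⁻¹' {s}) :
    clF f E s = clF f E' s := by rw [clF, clF, h]

lemma subset_clF (f : X ⟶ S) (E : Set X) (s : S) : E ∩ f ⁻¹' {s} ⊆ clF f E s :=
  fun _ hx => ⟨subset_closure hx, hx.2⟩

/-- Over a nonempty open subset of an integral Noetherian base, closing inside the fibre is the same
as taking the trace of the closure. -/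
theorem exists_open_clF_eq [IsIntegral S] [IsNoetherian S] (f : X ⟶ S) [LocallyOfFiniteType f]
    [QuasiCompact f] {E : Set X} (hE : IsConstructible E) :
    ∃ U : S.Opens, genericPoint S ∈ U ∧
      ∀ s ∈ U, clF f E s = closure E ∩ f ⁻¹' {s} := by
  haveI : IsLocallyNoetherian X := LocallyOfFiniteType.isLocallyNoetherian f
  haveI : CompactSpace X := QuasiCompact.compactSpace_of_compactSpace f
  haveI : IsNoetherian X := ⟨⟩
  obtain ⟨_, ⟨V, hV, rfl⟩, hηV, -⟩ := S.isBasis_affineOpens.exists_subset_of_mem_open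
    (Set.mem_univ (genericPoint S)) isOpen_univ
  replace hV : IsAffineOpen V := hV
  haveI : Nonempty ↥V := ⟨⟨_, hηV⟩⟩
  haveI : Nonempty ↥(V : Scheme.{u}) := ⟨⟨_, hηV⟩⟩
  haveI : IsDomain Γ(S, V) := inferInstance
  haveI : IsNoetherianRing Γ(S, V) := IsLocallyNoetherian.component_noetherian ⟨V, hV⟩
  obtain ⟨F, hcov⟩ := (TopologicalSpace.NoetherianSpace.isCompact
      ((f ⁻¹ᵁ V : X.Opens) : Set X)).elim_finite_subcover
    (fun W : {W : X.affineOpens // (W : X.Opens) ≤ f ⁻¹ᵁ V} => ((W.1 : X.Opens) : Set X))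
    (fun W => (W.1 : X.Opens).2) (fun x hx => by
      obtain ⟨_, ⟨W, hW, rfl⟩, hxW, hWU⟩ :=
        X.isBasis_affineOpens.exists_subset_of_mem_open hx (f ⁻¹ᵁ V).2
      exact Set.mem_iUnion.2 ⟨⟨⟨W, hW⟩, hWU⟩, hxW⟩)
  have key : ∀ W : X.affineOpens, ∃ a : Γ(S, V), a ≠ 0 ∧ ∀ hle : (W : X.Opens) ≤ f ⁻¹ᵁ V,
      ∀ z ∈ closure E, z ∈ (W : X.Opens) → f z ∈ S.basicOpen a →
        ∃ z' ∈ E, z' ⤳ z ∧ f z' = f z := by
    rintro ⟨W, hW'⟩
    have hW : IsAffineOpen W := hW'
    by_cases hle : W ≤ f ⁻¹ᵁ V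
    swap
    · exact ⟨1, one_ne_zero, fun h => absurd h hle⟩
    algebraize [(f.appLE V W hle).hom]
    haveI : Algebra.FiniteType Γ(S, V) Γ(X, W) := f.finiteType_appLE hV hW hle
    haveI : IsOpenImmersion hW.fromSpec := hW.isOpenImmersion_fromSpec
    have hEW : IsConstructible (hW.fromSpec ⁻¹' E) := hW.fromSpec.isConstructible_preimage hE
    obtain ⟨a, ha, H⟩ := exists_ne_zero_forall_exists_specializes (A := Γ(S, V)) (B := Γ(X, W)) hEW
    refine ⟨a, ha, fun _ z hz hzW hza => ?_⟩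
    obtain ⟨ζ, rfl⟩ : z ∈ range hW.fromSpec := by rw [hW.range_fromSpec]; exact hzW
    have hsq : ∀ ξ, f (hW.fromSpec ξ) = hV.fromSpec (Spec.map (f.appLE V W hle) ξ) := fun ξ => by
      rw [← Scheme.Hom.comp_apply, ← Scheme.Hom.comp_apply, hV.SpecMap_appLE_fromSpec f hW hle]
    have hζ : ζ ∈ closure (hW.fromSpec ⁻¹' E) := by
      rw [← hW.fromSpec.isOpenEmbedding.isOpenMap.preimage_closure_eq_closure_preimage
        hW.fromSpec.continuous]
      exact hz
    have haζ : a ∉ (ζ.comap (algebraMap Γ(S, V) Γ(X, W))).asIdeal := by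
      rw [hsq] at hza
      have := congrArg (fun T : (Spec Γ(S, V)).Opens => Spec.map (f.appLE V W hle) ζ ∈ T)
        (hV.fromSpec_preimage_basicOpen a)
      exact (this.mp hza)
    obtain ⟨ζ', hζ', hspec, heq⟩ := H ζ hζ haζ
    refine ⟨hW.fromSpec ζ', hζ', hspec.map hW.fromSpec.continuous, ?_⟩
    exact (hsq ζ').trans ((congrArg hV.fromSpec heq).trans (hsq ζ).symm)
  choose a ha hgen using key
  classical
  refine ⟨V ⊓ F.inf (fun W => S.basicOpen (a W.1)), ⟨hηV, ?_⟩, fun t ht => ?_⟩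
  · rw [TopologicalSpace.Opens.coe_finset_inf, Finset.inf_set_eq_iInter]
    refine Set.mem_iInter₂.2 fun W _ => ?_
    refine ((genericPoint_spec S).mem_open_set_iff (S.basicOpen (a W.1)).2).mpr ?_
    rw [Set.univ_inter, Set.nonempty_iff_ne_empty]
    exact fun h => ha W.1 ((basicOpen_eq_bot_iff _).mp (TopologicalSpace.Opens.ext h))
  · refine subset_antisymm
      (Set.inter_subset_inter_left _ (closure_mono Set.inter_subset_left)) ?_
    rintro z ⟨hz, hzt⟩
    refine ⟨?_, hzt⟩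
    have hzV : z ∈ f ⁻¹ᵁ V := by
      show f z ∈ V
      rw [show f z = t from hzt]; exact ht.1
    obtain ⟨W, hWs, hzW⟩ := Set.mem_iUnion₂.1 (hcov hzV)
    have hta : t ∈ S.basicOpen (a W.1) := by
      have := ht.2
      rw [TopologicalSpace.Opens.coe_finset_inf, Finset.inf_set_eq_iInter] at this
      exact Set.mem_iInter₂.1 this W hWs
    obtain ⟨z', hz'E, hspec, heq⟩ := hgen W.1 W.2 z hz hzW (by
      rw [show f z = t from hzt]; exact hta)
    exact closure_mono (s := ({z'} : Set X)) (Set.singleton_subset_iff.2 (show z' ∈ E ∩ f ⁻¹' {t} from ⟨hz'E, heq.trans hzt⟩)) hspec.mem_closure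

end Groth.Agent.FibTop
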