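import Groth.Agent.FibTop.Loci
import Groth.Agent.EGA43Fib.Basic

/-!
Topological properties of the maps induced on fibres.
-/

set_option autoImplicit false

universe u

open CategoryTheory CategoryTheory.Limits AlgebraicGeometry Topology Set

namespace Groth.Agent.FibTop

variable {X Y S : Scheme.{u}} (f : X ⟶ Y) (g : Y ⟶ S) (s : S)

lemma image_range_fmap :
    pullback.fst g (S.fromSpecResidueField s) '' range (EGA43Fib.fmap f g s) =
      range f ∩ g ⁻¹' {s} := by
  rw [← Set.range_comp, ← TopCat.coe_comp, ← Scheme.Hom.comp_base]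
  show range (EGA43Fib.fmap f g s ≫ pullback.fst g (S.fromSpecResidueField s)) = _
  rw [show EGA43Fib.fmap f g s ≫ pullback.fst g (S.fromSpecResidueField s) =
    pullback.fst (f ≫ g) (S.fromSpecResidueField s) ≫ f from pullback.lift_fst _ _ _,
    Scheme.Hom.comp_base, TopCat.coe_comp, Set.range_comp, EGA43Fib.range_fst_fiber]
  ext y
  constructor
  · rintro ⟨x, hx, rfl⟩
    exact ⟨⟨x, rfl⟩, hx⟩
  · rintro ⟨⟨x, rfl⟩, hy⟩
    exact ⟨x, hy, rfl⟩

lemma isDominant_fmap_iff :
    IsDominant (EGA43Fib.fmap f g s) ↔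
      univ ∩ g ⁻¹' {s} ⊆ closure (range f ∩ g ⁻¹' {s}) := by
  have he : IsEmbedding (pullback.fst g (S.fromSpecResidueField s)) :=
    (g.fiberι s).isEmbedding
  rw [isDominant_iff, DenseRange, dense_iff_closure_eq, he.closure_eq_preimage_closure_image,
    image_range_fmap, Set.preimage_eq_univ_iff, EGA43Fib.range_fst_fiber, Set.univ_inter]

lemma isClosed_range_fmap_iff :
    IsClosed (range (EGA43Fib.fmap f g s)) ↔
      IsClosed (Subtype.val ⁻¹' range f : Set ↥(g ⁻¹' {s})) := by
  have he : IsEmbedding (pullback.fst g (S.fromSpecResidueField s)) := (g.fiberι s).isEmbedding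
  rw [← closure_subset_iff_isClosed, ← closure_subset_iff_isClosed,
    he.closure_eq_preimage_closure_image, IsInducing.subtypeVal.closure_eq_preimage_closure_image,
    image_range_fmap, Subtype.image_preimage_coe, Set.inter_comm (g ⁻¹' {s})]
  constructor
  · intro H w hw
    obtain ⟨v, hv⟩ : w.1 ∈ range (pullback.fst g (S.fromSpecResidueField s)) := by
      rw [EGA43Fib.range_fst_fiber]; exact w.2
    have h1 : v ∈ range (EGA43Fib.fmap f g s) := H (by rw [Set.mem_preimage, hv]; exact hw)
    have h2 := (image_range_fmap f g s).le (mem_image_of_mem _ h1)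
    rw [hv] at h2
    exact h2.1
  · intro H v hv
    have hmem : pullback.fst g (S.fromSpecResidueField s) v ∈ g ⁻¹' {s} :=
      (EGA43Fib.range_fst_fiber g s).le ⟨v, rfl⟩
    have h1 := H (a := ⟨_, hmem⟩) hv
    obtain ⟨v', hv', hvv⟩ := (image_range_fmap f g s).ge ⟨h1, hmem⟩
    rwa [← he.injective hvv]

lemma isLocallyClosed_range_fmap_iff :
    IsLocallyClosed (range (EGA43Fib.fmap f g s)) ↔
      IsLocallyClosed (Subtype.val ⁻¹' range f : Set ↥(g ⁻¹' {s})) := by
  have he : IsEmbedding (pullback.fst g (S.fromSpecResidueField s)) := (g.fiberι s).isEmbedding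
  let e : ↥(pullback g (S.fromSpecResidueField s)) ≃ₜ ↥(g ⁻¹' {s}) :=
    he.toHomeomorph.trans (Homeomorph.setCongr (EGA43Fib.range_fst_fiber g s))
  have hr : range (EGA43Fib.fmap f g s) = e ⁻¹' (Subtype.val ⁻¹' range f) := by
    ext v
    constructor
    · intro hv
      exact ((image_range_fmap f g s).le (mem_image_of_mem _ hv)).1
    · intro hv
      obtain ⟨v', hv', hvv⟩ := (image_range_fmap f g s).ge
        ⟨(hv : pullback.fst g (S.fromSpecResidueField s) v ∈ range f), (e v).2⟩
      rwa [← he.injective hvv]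
  rw [hr]
  exact ⟨fun h => by simpa [Set.preimage_preimage] using h.preimage e.symm.continuous,
    fun h => h.preimage e.continuous⟩

end Groth.Agent.FibTop
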