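import Groth.Agent.FibTop.UC
import Groth.Agent.FpqcDesc.Props

/-!
Constructibility of the locus where the fibre map is an immersion (EGA IV 9.6.1).
-/

set_option autoImplicit false
set_option backward.isDefEq.respectTransparency false

universe u

open CategoryTheory CategoryTheory.Limits AlgebraicGeometry Topology Set

namespace Groth.Agent.FibTop

variable {X Y X' Y' S : Scheme.{u}}

/-- An immersion may be tested over an open immersion containing the image. -/
lemma isImmersion_iff_of_range_subset {m : X ⟶ Y} {m' : X' ⟶ Y'} {r : X' ⟶ X} {j : Y' ⟶ Y}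
    [IsOpenImmersion j] (sq : IsPullback r m' m j) (hR : range m ⊆ range j) :
    IsImmersion m ↔ IsImmersion m' := by
  refine ⟨fun h => MorphismProperty.of_isPullback sq h, fun h => ?_⟩
  haveI : IsOpenImmersion r := MorphismProperty.of_isPullback (P := @IsOpenImmersion) sq.flip ‹_›
  haveI : Surjective r := ⟨fun x => by
    obtain ⟨y, hy⟩ := hR ⟨x, rfl⟩
    have : x ∈ range r := by
      rw [← sq.isoPullback_hom_fst]
      simp only [Scheme.Hom.comp_base, TopCat.coe_comp]
      rw [Function.Surjective.range_comp sq.isoPullback.hom.surjective, Scheme.Pullback.range_fst]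
      exact ⟨y, hy⟩
    exact this⟩
  haveI : IsIso r := (isIso_iff_isOpenImmersion_and_surjective r).2 ⟨inferInstance, inferInstance⟩
  have e : m = inv r ≫ m' ≫ j := by rw [← sq.w, IsIso.inv_hom_id_assoc]
  rw [e]
  infer_instance

/-- An immersion is a closed immersion over an open on which its image is closed. -/
lemma isClosedImmersion_of_isImmersion {m : X ⟶ Y} {m' : X' ⟶ Y'} {r : X' ⟶ X} {j : Y' ⟶ Y}
    (sq : IsPullback r m' m j) [IsImmersion m'] (hcl : closure (range m) ∩ range j ⊆ range m) :
    IsClosedImmersion m' := by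
  refine IsClosedImmersion.of_isPreimmersion _ ?_
  have e : range m' = j ⁻¹' range m := by
    rw [← Scheme.Pullback.range_snd, ← sq.isoPullback_hom_snd]
    simp only [Scheme.Hom.comp_base, TopCat.coe_comp]
    rw [Function.Surjective.range_comp sq.isoPullback.hom.surjective]
  rw [e]
  have e2 : j ⁻¹' range m = j ⁻¹' closure (range m) :=
    subset_antisymm (Set.preimage_mono subset_closure) fun y hy => hcl ⟨hy, y, rfl⟩
  rw [e2]
  exact isClosed_closure.preimage j.continuous

theorem isFieldStableMor_isImmersion :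
    ConsProp.IsFieldStableMor (EtStruct.relOf (@IsImmersion : MorphismProperty Scheme.{u})) := by
  intro X X' Y Y' T T' f g f' g' eX eY h _ _ _ _ _ _ _ _ sqY sqX
  refine ⟨fun hf => MorphismProperty.of_isPullback sqX hf, fun (hf : IsImmersion f') => ?_⟩
  show IsImmersion f
  haveI : Surjective h := ⟨fun t => ⟨Classical.arbitrary T', Subsingleton.elim _ _⟩⟩
  have hh : FpqcDesc.FPQC h := ConsPropLib.fpqc_of_points h
  have heY : FpqcDesc.FPQC eY :=
    ⟨⟨MorphismProperty.of_isPullback (P := @Surjective) sqY.flip hh.1.1,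
      MorphismProperty.of_isPullback (P := @Flat) sqY.flip hh.1.2⟩,
      MorphismProperty.of_isPullback (P := @QuasiCompact) sqY.flip hh.2⟩
  haveI : UniversallyOpen eY :=
    MorphismProperty.of_isPullback (P := @UniversallyOpen) sqY.flip inferInstance
  haveI : Surjective eY := heY.1.1
  have e : range f' = eY ⁻¹' range f := by
    rw [← Scheme.Pullback.range_snd, ← sqX.isoPullback_hom_snd]
    simp only [Scheme.Hom.comp_base, TopCat.coe_comp]
    rw [Function.Surjective.range_comp sqX.isoPullback.hom.surjective]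
  have ec : eY ⁻¹' closure (range f) = closure (range f') := by
    rw [e]; exact eY.isOpenMap.preimage_closure_eq_closure_preimage eY.continuous _
  have ecb : eY ⁻¹' coborder (range f) = coborder (range f') := by
    rw [coborder, coborder, Set.preimage_compl, Set.preimage_sdiff, ec, ← e]
  have hopen : IsOpen (coborder (range f)) := by
    rw [← Set.image_preimage_eq (coborder (range f)) eY.surjective, ecb]
    exact eY.isOpenMap _ f'.isLocallyClosed_range.isOpen_coborder
  let W : Y.Opens := ⟨coborder (range f), hopen⟩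
  have hW : range f ⊆ range W.ι := by
    rw [Scheme.Opens.range_ι]; exact subset_coborder
  have sqW : IsPullback (pullback.fst f W.ι) (pullback.snd f W.ι) f W.ι :=
    IsPullback.of_hasPullback _ _
  rw [isImmersion_iff_of_range_subset sqW hW]
  suffices IsClosedImmersion (pullback.snd f W.ι) from inferInstance
  let eW : (eY ⁻¹ᵁ W).toScheme ⟶ W.toScheme := eY ∣_ W
  have heW : FpqcDesc.FPQC eW :=
    ⟨⟨MorphismProperty.of_isPullback (P := @Surjective) (isPullback_morphismRestrict eY W).flip
        heY.1.1,
      MorphismProperty.of_isPullback (P := @Flat) (isPullback_morphismRestrict eY W).flip heY.1.2⟩,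
      MorphismProperty.of_isPullback (P := @QuasiCompact) (isPullback_morphismRestrict eY W).flip
        heY.2⟩
  let W' := eY ⁻¹ᵁ W
  have sqW' : IsPullback (pullback.fst f' W'.ι) (pullback.snd f' W'.ι) f' W'.ι :=
    IsPullback.of_hasPullback _ _
  haveI : IsImmersion (pullback.snd f' W'.ι) := MorphismProperty.of_isPullback sqW' hf
  haveI : IsClosedImmersion (pullback.snd f' W'.ι) := by
    refine isClosedImmersion_of_isImmersion sqW' ?_
    rintro y ⟨hy, hyW⟩
    rw [Scheme.Opens.range_ι] at hyW
    have hy2 : y ∈ coborder (range f') := ecb.le hyW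
    by_contra hny
    exact hy2 ⟨hy, hny⟩
  let k : pullback f' W'.ι ⟶ pullback f W.ι :=
    pullback.lift (pullback.fst f' W'.ι ≫ eX) (pullback.snd f' W'.ι ≫ eW)
      (by rw [Category.assoc, sqX.w, pullback.condition_assoc, Category.assoc,
        morphismRestrict_ι])
  have sqk : IsPullback k (pullback.snd f' W'.ι) (pullback.snd f W.ι) eW := by
    refine IsPullback.of_right ?_ (by simp [k]) sqW
    simpa [k, eW, morphismRestrict_ι] using sqW'.paste_horiz sqX
  haveI : MorphismProperty.DescendsAlong @IsClosedImmersion FpqcDesc.FPQC.{u} :=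
    FpqcDesc.descendsAlong_isClosedImmersion
  exact MorphismProperty.DescendsAlong.of_isPullback (P := @IsClosedImmersion.{u})
    (Q := FpqcDesc.FPQC.{u}) sqk.flip heW ‹_›

theorem isFieldStableMor_isClosedImmersion :
    ConsProp.IsFieldStableMor (EtStruct.relOf (@IsClosedImmersion : MorphismProperty Scheme.{u})) := by
  intro X X' Y Y' T T' f g f' g' eX eY h _ _ _ _ _ _ _ _ sqY sqX
  refine ⟨fun hf => MorphismProperty.of_isPullback sqX hf, fun hf => ?_⟩
  haveI : Surjective h := ⟨fun t => ⟨Classical.arbitrary T', Subsingleton.elim _ _⟩⟩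
  have hh : FpqcDesc.FPQC h := ConsPropLib.fpqc_of_points h
  have heY : FpqcDesc.FPQC eY :=
    ⟨⟨MorphismProperty.of_isPullback (P := @Surjective) sqY.flip hh.1.1,
      MorphismProperty.of_isPullback (P := @Flat) sqY.flip hh.1.2⟩,
      MorphismProperty.of_isPullback (P := @QuasiCompact) sqY.flip hh.2⟩
  haveI : MorphismProperty.DescendsAlong @IsClosedImmersion FpqcDesc.FPQC.{u} :=
    FpqcDesc.descendsAlong_isClosedImmersion
  exact MorphismProperty.DescendsAlong.of_isPullback (P := @IsClosedImmersion.{u})
    (Q := FpqcDesc.FPQC.{u}) sqX.flip heY hf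

/-- Being an immersion is a constructible property of morphisms of algebraic schemes. -/
theorem isConsMor_isImmersion :
    ConsProp.IsConsMor (EtStruct.relOf (@IsImmersion : MorphismProperty Scheme.{u})) := by
  refine ⟨isFieldStableMor_isImmersion, fun X Y S f g _ _ _ _ _ _ => ?_⟩
  haveI : LocallyOfFiniteType f := locallyOfFiniteType_of_comp f g
  haveI : IsLocallyNoetherian Y := LocallyOfFiniteType.isLocallyNoetherian g
  haveI : CompactSpace Y := QuasiCompact.compactSpace_of_compactSpace g
  haveI : IsNoetherian Y := ⟨⟩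
  haveI : QuasiCompact f := QuasiCompact.of_comp f g
  haveI : LocallyOfFinitePresentation f :=
    LocallyOfFinitePresentation.iff_locallyOfFiniteType.2 ‹_›
  haveI : LocallyOfFinitePresentation g :=
    LocallyOfFinitePresentation.iff_locallyOfFiniteType.2 ‹_›
  haveI : IsLocallyNoetherian X := LocallyOfFiniteType.isLocallyNoetherian f
  haveI : CompactSpace X := QuasiCompact.compactSpace_of_compactSpace f
  haveI : IsNoetherian X := ⟨⟩
  set E := range f with hEdef
  have hE : IsConstructible E := by
    rw [hEdef, ← Set.image_univ]; exact f.isConstructible_image IsConstructible.univ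
  have hG : IsConstructible (closure E \ E) :=
    (ConstrLib.isConstructible_of_isClosed isClosed_closure).sdiff hE
  obtain ⟨U₁, hη₁, hU₁⟩ := exists_open_clF_eq g hE
  obtain ⟨U₂, hη₂, hU₂⟩ := exists_open_clF_eq g hG
  set T := closure (closure E \ E) ∩ E with hT
  have hTc : IsConstructible (g '' T) :=
    g.isConstructible_image ((ConstrLib.isConstructible_of_isClosed isClosed_closure).inter hE)
  have hLC : ∀ s ∈ U₁ ⊓ U₂, IsImmersion (MoreMor.fiberMap f g s) → s ∉ g '' T := by
    rintro s ⟨hs₁, hs₂⟩ hi ⟨z, hzT, hzs⟩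
    have h1 := (mem_locus_locClosed g E E s).2
      ((isLocallyClosed_range_fmap_iff f g s).1
        (MoreMor.fiberMap f g s).isLocallyClosed_range)
    refine h1 z hzs ⟨?_, hzT.2⟩
    have : clF g (clF g E s \ E) s = clF g (closure E \ E) s := by
      refine clF_congr g ?_
      rw [hU₁ s hs₁]
      ext w; simp only [Set.mem_inter_iff, Set.mem_sdiff]; tauto
    rw [this, hU₂ s hs₂]
    exact ⟨hzT.1, hzs⟩
  by_cases hη : genericPoint S ∈ g '' T
  · obtain ⟨O, hO, hmem, hsub⟩ := ConsPropLib.exists_open_subset_of_generic hTc hη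
    exact Or.inr ⟨genericPoint S, interior_maximal
      (show O ∩ ((U₁ ⊓ U₂ : S.Opens) : Set S) ⊆ _ from fun s hs hi => hLC s hs.2 hi (hsub hs.1))
      (hO.inter (U₁ ⊓ U₂).2) ⟨hmem, hη₁, hη₂⟩⟩
  obtain ⟨O, hO, hmem, hsub⟩ := ConsPropLib.exists_open_subset_of_generic hTc.compl hη
  let W : Y.Opens := ⟨(closure (closure E \ E))ᶜ, isClosed_closure.isOpen_compl⟩
  haveI : IsNoetherian W.toScheme := by
    haveI : IsLocallyNoetherian W.toScheme := isLocallyNoetherian_of_isOpenImmersion W.ι
    haveI : CompactSpace W.toScheme :=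
      isCompact_iff_compactSpace.mp (TopologicalSpace.NoetherianSpace.isCompact _)
    exact ⟨⟩
  let fW : pullback f W.ι ⟶ W.toScheme := pullback.snd f W.ι
  let gW : W.toScheme ⟶ S := W.ι ≫ g
  haveI : LocallyOfFiniteType gW := inferInstance
  haveI : LocallyOfFiniteType (fW ≫ gW) := inferInstance
  haveI : QuasiCompact gW := inferInstance
  haveI : QuasiCompact (fW ≫ gW) := inferInstance
  have key : ∀ s ∈ O ∩ (U₁ : Set S),
      (IsImmersion (MoreMor.fiberMap f g s) ↔
        IsClosedImmersion (MoreMor.fiberMap fW gW s)) := by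
    rintro s ⟨hsO, hsU⟩
    let j := MoreMor.fiberMap W.ι g s
    haveI : IsOpenImmersion j := MorphismProperty.of_isPullback (P := @IsOpenImmersion)
      (ConsPropLib.isPullback_fiberMap W.ι g s) inferInstance
    have sq0 := ConsPropLib.isPullback_fiberMap f g s
    have sq1 : IsPullback ((fW ≫ gW).fiberι s ≫ pullback.fst f W.ι)
        (MoreMor.fiberMap fW gW s) f (gW.fiberι s ≫ W.ι) :=
      (ConsPropLib.isPullback_fiberMap fW gW s).paste_horiz (IsPullback.of_hasPullback f W.ι)
    rw [show gW.fiberι s ≫ W.ι = j ≫ g.fiberι s from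
      (ConsPropLib.fiberMap_ι W.ι g s).symm] at sq1
    let r := sq0.lift ((fW ≫ gW).fiberι s ≫ pullback.fst f W.ι)
      (MoreMor.fiberMap fW gW s ≫ j) (by rw [Category.assoc]; exact sq1.w)
    have sq2 : IsPullback r (MoreMor.fiberMap fW gW s) (MoreMor.fiberMap f g s) j :=
      IsPullback.of_right (by simpa [r] using sq1) (by simp [r]) sq0
    have hj : range j = g.fiberι s ⁻¹' (W : Set Y) := by
      have h' := ConsPropLib.isPullback_fiberMap W.ι g s
      show range (MoreMor.fiberMap W.ι g s) = _
      rw [← h'.isoPullback_hom_snd]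
      simp only [Scheme.Hom.comp_base, TopCat.coe_comp]
      rw [Function.Surjective.range_comp h'.isoPullback.hom.surjective, Scheme.Pullback.range_snd,
        Scheme.Opens.range_ι]
    have hm : range (MoreMor.fiberMap f g s) = g.fiberι s ⁻¹' E := by
      rw [← sq0.isoPullback_hom_snd]
      simp only [Scheme.Hom.comp_base, TopCat.coe_comp]
      rw [Function.Surjective.range_comp sq0.isoPullback.hom.surjective, Scheme.Pullback.range_snd]
    have hfib : ∀ v, g (g.fiberι s v) = s := fun v => by
      have := mem_range_self (f := g.fiberι s) v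
      rwa [g.range_fiberι] at this
    have hsubj : range (MoreMor.fiberMap f g s) ⊆ range j := by
      rw [hm, hj]
      exact fun v hv hvG => hsub hsO ⟨_, ⟨hvG, hv⟩, hfib v⟩
    rw [isImmersion_iff_of_range_subset sq2 hsubj]
    refine ⟨fun h => isClosedImmersion_of_isImmersion sq2 ?_, fun h => inferInstance⟩
    rintro v ⟨hv, hvW⟩
    rw [hj] at hvW
    rw [hm, ← preimage_clF, Set.mem_preimage, hU₁ s hsU] at hv
    rw [hm]
    by_contra hvE
    exact hvW (subset_closure ⟨hv.1, hvE⟩)
  have hcl : IsConstructible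
      (ConsProp.locusMor (EtStruct.relOf (@IsClosedImmersion : MorphismProperty Scheme.{u})) fW gW) := by
    haveI : LocallyOfFinitePresentation gW :=
      LocallyOfFinitePresentation.iff_locallyOfFiniteType.2 ‹_›
    haveI : IsLocallyNoetherian ↑(pullback f W.ι) :=
      LocallyOfFiniteType.isLocallyNoetherian (fW ≫ gW)
    haveI : LocallyOfFinitePresentation (fW ≫ gW) :=
      LocallyOfFinitePresentation.iff_locallyOfFiniteType.2 ‹_›
    exact (isLocallyConstructible_closedImmersionLocus fW gW).isConstructible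
  rcases ConsPropLib.interior_or_compl_of_isConstructible hcl with ⟨s₀, hs₀⟩ | ⟨s₀, hs₀⟩
  all_goals
    obtain ⟨Z, hZsub, hZo, hs₀Z⟩ := mem_interior.1 hs₀
    have hηZ : genericPoint S ∈ Z :=
      ((genericPoint_spec S).mem_open_set_iff hZo).2 ⟨s₀, by simpa using hs₀Z⟩
  · exact Or.inl ⟨genericPoint S, interior_maximal
      (show (O ∩ (U₁ : Set S)) ∩ Z ⊆ _ from fun s hs => (key s hs.1).2 (hZsub hs.2))
      ((hO.inter U₁.2).inter hZo) ⟨⟨hmem, hη₁⟩, hηZ⟩⟩
  · exact Or.inr ⟨genericPoint S, interior_maximal
      (show (O ∩ (U₁ : Set S)) ∩ Z ⊆ _ from fun s hs hi => hZsub hs.2 ((key s hs.1).1 hi))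
      ((hO.inter U₁.2).inter hZo) ⟨⟨hmem, hη₁⟩, hηZ⟩⟩

theorem isLocallyConstructible_immersionLocus (f : X ⟶ Y) (g : Y ⟶ S)
    [LocallyOfFinitePresentation g] [QuasiCompact g] [QuasiSeparated g]
    [LocallyOfFinitePresentation (f ≫ g)] [QuasiCompact (f ≫ g)] [QuasiSeparated (f ≫ g)] :
    IsLocallyConstructible {s : S | IsImmersion (EGA43Fib.fmap f g s)} :=
  ConsPairLib.isLocallyConstructible_locusMor isConsMor_isImmersion f g

end Groth.Agent.FibTop
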