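import Groth.Agent.FibTop.Fmap
import Groth.Agent.EtStruct.FibreLocus
import Groth.Agent.S5889
import Groth.Agent.S3443
import Groth.Agent.S3444
import Groth.Agent.S12442
import Mathlib.AlgebraicGeometry.Morphisms.FlatMono

/-!
Constructibility of the loci where the fibre map is a monomorphism, an isomorphism, an open
immersion, quasi-finite or separated.
-/

set_option autoImplicit false
set_option backward.isDefEq.respectTransparency false

universe u

open CategoryTheory CategoryTheory.Limits AlgebraicGeometry Topology Set

namespace Groth.Agent.FibTop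

variable {X Y S : Scheme.{u}}

lemma fmap_eq (f : X ⟶ Y) (g : Y ⟶ S) (s : S) :
    EGA43Fib.fmap f g s = MoreMor.fiberMap f g s := rfl

lemma mono_of_formallyUnramified_of_universallyInjective (f : X ⟶ Y) [LocallyOfFiniteType f]
    [FormallyUnramified f] [UniversallyInjective f] : Mono f := by
  rw [← pullback.isIso_diagonal_iff]
  have : Surjective (pullback.diagonal f) := (UniversallyInjective.iff_diagonal f).1 ‹_›
  exact (isIso_iff_isOpenImmersion_and_surjective _).2 ⟨inferInstance, this⟩

lemma mono_iff (f : X ⟶ Y) [LocallyOfFiniteType f] :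
    Mono f ↔ FormallyUnramified f ∧ UniversallyInjective f := by
  refine ⟨fun h => ⟨?_, inferInstance⟩, fun ⟨h1, h2⟩ =>
    mono_of_formallyUnramified_of_universallyInjective f⟩
  haveI : IsIso (pullback.diagonal f) := (pullback.isIso_diagonal_iff f).2 h
  infer_instance

lemma isOpenImmersion_iff (f : X ⟶ Y) :
    IsOpenImmersion f ↔ Etale f ∧ UniversallyInjective f := by
  refine ⟨fun h => ⟨inferInstance, inferInstance⟩, fun ⟨h1, h2⟩ => ?_⟩
  haveI : LocallyOfFinitePresentation f := inferInstance
  haveI : Mono f := mono_of_formallyUnramified_of_universallyInjective f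
  exact IsOpenImmersion.of_flat_of_mono f

lemma isIso_iff (f : X ⟶ Y) :
    IsIso f ↔ Etale f ∧ UniversallyInjective f ∧ Function.Surjective f := by
  rw [isIso_iff_isOpenImmersion_and_surjective, isOpenImmersion_iff, and_assoc, surjective_iff]

variable (f : X ⟶ Y) (g : Y ⟶ S)
  [LocallyOfFinitePresentation g] [QuasiCompact g] [QuasiSeparated g]
  [LocallyOfFinitePresentation (f ≫ g)] [QuasiCompact (f ≫ g)] [QuasiSeparated (f ≫ g)]

lemma locallyOfFiniteType_fmap (s : S) : LocallyOfFiniteType (EGA43Fib.fmap f g s) := by
  haveI : LocallyOfFiniteType f := locallyOfFiniteType_of_comp f g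
  exact MorphismProperty.of_isPullback (P := @LocallyOfFiniteType)
    (EGA43Fib.isPullback_fmap f g s) ‹_›

lemma quasiCompact_fmap (s : S) : QuasiCompact (EGA43Fib.fmap f g s) := by
  haveI : QuasiCompact f := QuasiCompact.of_comp f g
  exact MorphismProperty.of_isPullback (P := @QuasiCompact)
    (EGA43Fib.isPullback_fmap f g s) ‹_›

lemma isLocallyConstructible_etaleLocus :
    IsLocallyConstructible {s : S | Etale (EGA43Fib.fmap f g s)} := by
  have e : {s : S | Etale (EGA43Fib.fmap f g s)} = {s : S | Etale (pullback.snd f (g.fiberι s))} := by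
    ext s
    have hsq := EGA43Fib.isPullback_fmap f g s
    show Etale (EGA43Fib.fmap f g s) ↔ _
    rw [← hsq.isoPullback_hom_snd, MorphismProperty.cancel_left_of_respectsIso @Etale.{u}]
    rfl
  rw [e]
  exact EtStruct.isLocallyConstructible_locus @Etale.{u} EtStruct.hasFibreCriterion_etale.{u} g (f ≫ g) f rfl

lemma isLocallyConstructible_unramifiedLocus :
    IsLocallyConstructible {s : S | FormallyUnramified (EGA43Fib.fmap f g s)} := by
  have e : {s : S | FormallyUnramified (EGA43Fib.fmap f g s)} =
      {s : S | FormallyUnramified (pullback.snd f (g.fiberι s))} := by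
    ext s
    have hsq := EGA43Fib.isPullback_fmap f g s
    show FormallyUnramified (EGA43Fib.fmap f g s) ↔ _
    rw [← hsq.isoPullback_hom_snd,
      MorphismProperty.cancel_left_of_respectsIso @FormallyUnramified.{u}]
    rfl
  rw [e]
  exact EtStruct.isLocallyConstructible_locus @FormallyUnramified.{u} EtStruct.hasFibreCriterion_formallyUnramified.{u} g
    (f ≫ g) f rfl

theorem isLocallyConstructible_monoLocus :
    IsLocallyConstructible {s : S | Mono (EGA43Fib.fmap f g s)} := by
  have e : {s : S | Mono (EGA43Fib.fmap f g s)} =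
      {s | FormallyUnramified (EGA43Fib.fmap f g s)} ∩
        {s | UniversallyInjective (EGA43Fib.fmap f g s)} := by
    ext s
    haveI := locallyOfFiniteType_fmap f g s
    exact mono_iff _
  rw [e]
  exact (isLocallyConstructible_unramifiedLocus f g).inter (S3444.result f g)

theorem isLocallyConstructible_openImmersionLocus :
    IsLocallyConstructible {s : S | IsOpenImmersion (EGA43Fib.fmap f g s)} := by
  have e : {s : S | IsOpenImmersion (EGA43Fib.fmap f g s)} =
      {s | Etale (EGA43Fib.fmap f g s)} ∩ {s | UniversallyInjective (EGA43Fib.fmap f g s)} :=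
    Set.ext fun s => isOpenImmersion_iff _
  rw [e]
  exact (isLocallyConstructible_etaleLocus f g).inter (S3444.result f g)

theorem isLocallyConstructible_isoLocus :
    IsLocallyConstructible {s : S | IsIso (EGA43Fib.fmap f g s)} := by
  have e : {s : S | IsIso (EGA43Fib.fmap f g s)} =
      {s | Etale (EGA43Fib.fmap f g s)} ∩ ({s | UniversallyInjective (EGA43Fib.fmap f g s)} ∩
        {s | Function.Surjective (EGA43Fib.fmap f g s)}) :=
    Set.ext fun s => isIso_iff _
  rw [e]
  exact (isLocallyConstructible_etaleLocus f g).inter ((S3444.result f g).inter (S3443.result f g))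

theorem isLocallyConstructible_quasiFiniteLocus :
    IsLocallyConstructible {s : S | LocallyQuasiFinite (EGA43Fib.fmap f g s)} := by
  convert ConsPairLib.isLocallyConstructible_locusMor S5889.result f g using 1
  ext s
  exact ⟨fun h => ⟨locallyOfFiniteType_fmap f g s, quasiCompact_fmap f g s, h⟩, fun h => h.2.2⟩

lemma isClosed_preimage_iff_of_isEmbedding {A B : Type*} [TopologicalSpace A] [TopologicalSpace B]
    {π : A → B} (hπ : IsEmbedding π) {F : Set B} (hF : range π = F) (T : Set B) :
    IsClosed (π ⁻¹' T) ↔ IsClosed (Subtype.val ⁻¹' T : Set F) :=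
  (hπ.toHomeomorph.trans (Homeomorph.setCongr hF)).isClosed_preimage (s := Subtype.val ⁻¹' T)

theorem isLocallyConstructible_separatedLocus :
    IsLocallyConstructible {s : S | IsSeparated (EGA43Fib.fmap f g s)} := by
  haveI : LocallyOfFinitePresentation f := S12442.result f g
  haveI : QuasiCompact f := QuasiCompact.of_comp f g
  haveI : QuasiSeparated f := QuasiSeparated.of_comp f g
  haveI : LocallyOfFinitePresentation (pullback.diagonal f) :=
    LimLib.locallyOfFinitePresentation_diagonal f
  let p : pullback f f ⟶ S := pullback.fst f f ≫ f ≫ g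
  haveI : LocallyOfFinitePresentation p :=
    MorphismProperty.comp_mem @LocallyOfFinitePresentation _ _ inferInstance inferInstance
  haveI : QuasiCompact p := inferInstanceAs (QuasiCompact (pullback.fst f f ≫ f ≫ g))
  haveI : QuasiSeparated p := inferInstanceAs (QuasiSeparated (pullback.fst f f ≫ f ≫ g))
  have hr : IsLocallyConstructible (range (pullback.diagonal f)) :=
    EGA43Fib.isLocallyConstructible_range _
  convert isLocallyConstructible_locus bc_closedOp gen_closedOp p hr hr using 1
  ext s
  rw [mem_locus_closed]
  have h := EGA43Fib.isPullback_fmap f g s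
  have h2 := (LimLib.isPullback_map_diag h).paste_vert
    (IsPullback.of_hasPullback g (S.fromSpecResidueField s))
  rw [Category.assoc (pullback.fst f f) f g] at h2
  have hd := LimLib.isPullback_diagonal h
  set π := pullback.map (EGA43Fib.fmap f g s) (EGA43Fib.fmap f g s) f f
    (pullback.fst (f ≫ g) (S.fromSpecResidueField s)) (pullback.fst (f ≫ g) (S.fromSpecResidueField s))
    (pullback.fst g (S.fromSpecResidueField s)) h.w.symm h.w.symm with hπ
  haveI : IsPreimmersion π :=
    MorphismProperty.of_isPullback (P := @IsPreimmersion) h2.flip inferInstance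
  have hrange : range π = p ⁻¹' {s} := by
    rw [← h2.isoPullback_hom_fst]
    simp only [Scheme.Hom.comp_base, TopCat.coe_comp]
    rw [Function.Surjective.range_comp h2.isoPullback.hom.surjective, EGA43Fib.range_fst_fiber]
  rw [← isClosed_preimage_iff_of_isEmbedding π.isEmbedding hrange]
  have e : range (pullback.diagonal (EGA43Fib.fmap f g s)) = π ⁻¹' range (pullback.diagonal f) := by
    rw [← Scheme.Pullback.range_snd, ← hd.isoPullback_hom_snd]
    simp only [Scheme.Hom.comp_base, TopCat.coe_comp]
    rw [Function.Surjective.range_comp hd.isoPullback.hom.surjective]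
  rw [← e]
  show IsSeparated _ ↔ _
  exact ⟨fun h => (pullback.diagonal (EGA43Fib.fmap f g s)).isClosedEmbedding.isClosed_range,
    fun h => ⟨IsClosedImmersion.of_isPreimmersion _ h⟩⟩

end Groth.Agent.FibTop
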