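import Groth.Agent.FlatMisc.GenericFreeLoc
import Groth.Agent.ConstrLib.Basic
import Mathlib.RingTheory.Spectrum.Prime.Chevalley
import Mathlib.RingTheory.Spectrum.Prime.ConstructibleSet
import Mathlib.RingTheory.Spectrum.Prime.Noetherian
import Mathlib.RingTheory.Ideal.MinimalPrime.Localization
import Mathlib.RingTheory.Flat.Equalizer
import Mathlib.RingTheory.Spectrum.Prime.RingHom

/-!
Closures of constructible sets in the fibres over a generic open (EGA IV 9.5.3).
-/

set_option autoImplicit false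

universe u

open TensorProduct Topology PrimeSpectrum

namespace Groth.Agent.FibTop

variable {A B : Type u} [CommRing A] [CommRing B] [Algebra A B]

set_option maxHeartbeats 800000 in
/-- If `b` is a non zero divisor whose cokernel becomes flat over `R`, then over the primes of `A`
coming from `R` no component of a fibre lies in `V(b)`. -/
theorem exists_le_notMem_fibre (R : Type u) [CommRing R] [Algebra A R] [Module.Flat A R] {b : B}
    (hb : b ∈ nonZeroDivisors B) (hflat : Module.Flat A (R ⊗[A] (B ⧸ Ideal.span {b})))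
    (Q : Ideal B) [Q.IsPrime] (φ : R →ₐ[A] (Q.under A).ResidueField) :
    ∃ Q' : Ideal B, Q'.IsPrime ∧ Q' ≤ Q ∧ Q'.under A = Q.under A ∧ b ∉ Q' := by
  set p := Q.under A
  haveI : Q.LiesOver p := ⟨rfl⟩
  let K := p.ResidueField
  let m : B →ₗ[A] B := LinearMap.mulLeft A b
  let π : B →ₗ[A] B ⧸ Ideal.span {b} := (Ideal.Quotient.mkₐ A (Ideal.span {b})).toLinearMap
  have hex : Function.Exact m π := by
    intro x
    show Ideal.Quotient.mk (Ideal.span {b}) x = 0 ↔ x ∈ Set.range m
    rw [Ideal.Quotient.eq_zero_iff_mem, Ideal.mem_span_singleton']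
    exact ⟨fun ⟨a, ha⟩ => ⟨a, by simp [m, mul_comm, ← ha]⟩,
      fun ⟨a, ha⟩ => ⟨a, by simp [m] at ha; rw [mul_comm]; exact ha⟩⟩
  have hm : Function.Injective m := fun x y h => by
    simpa [m, mul_cancel_left_mem_nonZeroDivisors hb] using h
  haveI := hflat
  have h1 : Function.Injective (LinearMap.lTensor K (LinearMap.lTensor R m)) :=
    LinearMap.lTensor_injective_of_exact_of_flat (LinearMap.lTensor R π)
      (LinearMap.lTensor_surjective R Ideal.Quotient.mk_surjective) (LinearMap.lTensor R m)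
      (Module.Flat.lTensor_preserves_injective_linearMap m hm)
      (lTensor_exact R hex Ideal.Quotient.mk_surjective) K
  let i : K ⊗[A] B →ₗ[A] K ⊗[A] (R ⊗[A] B) :=
    LinearMap.lTensor K (TensorProduct.mk A R B 1)
  let r : K ⊗[A] (R ⊗[A] B) →ₗ[A] K ⊗[A] B :=
    LinearMap.rTensor B ((LinearMap.mul' A K) ∘ₗ LinearMap.lTensor K φ.toLinearMap) ∘ₗ
      (TensorProduct.assoc A K R B).symm.toLinearMap
  have hri : ∀ z, r (i z) = z := fun z => by
    induction z using TensorProduct.induction_on with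
    | zero => simp
    | tmul x y => simp [r, i]
    | add x y hx hy => simp only [map_add, hx, hy]
  have hnat : ∀ z, i (LinearMap.lTensor K m z) =
      LinearMap.lTensor K (LinearMap.lTensor R m) (i z) := fun z => by
    induction z using TensorProduct.induction_on with
    | zero => simp
    | tmul x y => simp [i]
    | add x y hx hy => simp only [map_add, hx, hy]
  have h2 : Function.Injective (LinearMap.lTensor K m) := fun x y h => by
    have h' := h1 (a₁ := i x) (a₂ := i y) (by rw [← hnat, ← hnat, h])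
    rw [← hri x, ← hri y, h']
  have hmul : ∀ z : K ⊗[A] B, LinearMap.lTensor K m z = ((1 : K) ⊗ₜ[A] b) * z := fun z => by
    induction z using TensorProduct.induction_on with
    | zero => simp
    | tmul x y => simp [m]
    | add x y hx hy => simp only [map_add, hx, hy, mul_add]
  have hreg : (1 : K) ⊗ₜ[A] b ∈ nonZeroDivisors (K ⊗[A] B) := by
    rw [mem_nonZeroDivisors_iff_right]
    intro z hz
    apply h2
    rw [hmul, map_zero, mul_comm]
    exact hz
  obtain ⟨P, hP⟩ : ∃ P : PrimeSpectrum (K ⊗[A] B),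
      PrimeSpectrum.comap (Algebra.TensorProduct.includeRight : B →ₐ[A] K ⊗[A] B).toRingHom P =
        ⟨Q, ‹_›⟩ := by
    refine ⟨(PrimeSpectrum.preimageEquivFiber A B ⟨p, inferInstance⟩ ⟨⟨Q, ‹_›⟩, rfl⟩), ?_⟩
    exact congrArg Subtype.val
      ((PrimeSpectrum.preimageEquivFiber A B ⟨p, inferInstance⟩).symm_apply_apply ⟨⟨Q, ‹_›⟩, rfl⟩)
  obtain ⟨P₀, hP₀, hle⟩ := Ideal.exists_minimalPrimes_le (I := (⊥ : Ideal (K ⊗[A] B)))
    (J := P.asIdeal) bot_le
  haveI : P₀.IsPrime := hP₀.1.1
  have hnot : (1 : K) ⊗ₜ[A] b ∉ P₀ := fun h =>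
    Set.disjoint_left.1 (Ideal.disjoint_nonZeroDivisors_of_mem_minimalPrimes hP₀) h hreg
  let ι := (Algebra.TensorProduct.includeRight : B →ₐ[A] K ⊗[A] B).toRingHom
  refine ⟨P₀.comap ι, inferInstance, ?_, ?_, hnot⟩
  · refine (Ideal.comap_mono hle).trans (le_of_eq ?_)
    exact congrArg PrimeSpectrum.asIdeal hP
  · have e1 : ι.comp (algebraMap A B) =
        (algebraMap K (K ⊗[A] B)).comp (algebraMap A K) := by
      ext a
      simp [ι, Algebra.TensorProduct.algebraMap_apply]
    rw [Ideal.under_def, Ideal.comap_comap, e1, ← Ideal.comap_comap]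
    have : P₀.comap (algebraMap K (K ⊗[A] B)) = ⊥ :=
      Ideal.eq_bot_of_prime _
    rw [this]
    exact Ideal.ker_algebraMap_residueField p

/-- Over a dense open of the base, the closure of a constructible set in a fibre is the trace of its
closure. -/
theorem exists_ne_zero_forall_exists_specializes [IsNoetherianRing A] [IsDomain A]
    [Algebra.FiniteType A B] {E : Set (PrimeSpectrum B)} (hE : IsConstructible E) :
    ∃ a : A, a ≠ 0 ∧ ∀ z ∈ closure E, a ∉ (z.comap (algebraMap A B)).asIdeal →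
      ∃ z' ∈ E, z' ⤳ z ∧ z'.comap (algebraMap A B) = z.comap (algebraMap A B) := by
  haveI : IsNoetherianRing B := Algebra.FiniteType.isNoetherianRing A B
  obtain ⟨D, _, f, hf⟩ := PrimeSpectrum.exists_range_eq_of_isConstructible hE
  set I := (RingHom.ker f).radical with hI
  have hcl : closure E = zeroLocus (I : Set B) := by
    rw [← hf, PrimeSpectrum.closure_range_comap, hI, zeroLocus_radical]
  have hmin : ∀ Q ∈ I.minimalPrimes, ∀ hQ : Q.IsPrime, (⟨Q, hQ⟩ : PrimeSpectrum B) ∈ E := by
    intro Q hQ hQp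
    rw [hI, Ideal.radical_minimalPrimes] at hQ
    obtain ⟨q, hq, hqQ⟩ := Ideal.exists_comap_eq_of_mem_minimalPrimes f (I := ⊥) Q (by
      simpa [RingHom.ker_eq_comap_bot] using hQ)
    rw [← hf]
    exact ⟨⟨q, hq⟩, PrimeSpectrum.ext hqQ.2⟩
  set F := closure (closure E \ E) with hF
  have hFI : F ⊆ closure E := closure_minimal Set.sdiff_subset isClosed_closure
  have hminF : ∀ Q ∈ I.minimalPrimes, ∀ hQ : Q.IsPrime, (⟨Q, hQ⟩ : PrimeSpectrum B) ∉ F := by
    intro Q hQ hQp hmem
    have hc : IsConstructible (closure E \ E) := by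
      have hcE : IsConstructible (closure E) := by
        rw [hcl]
        exact ConstrLib.isConstructible_of_isClosed (isClosed_zeroLocus _)
      exact hcE.sdiff hE
    obtain ⟨D', _, f', hf'⟩ := PrimeSpectrum.exists_range_eq_of_isConstructible hc
    rw [hF, ← hf', PrimeSpectrum.closure_range_comap, mem_zeroLocus, SetLike.coe_subset_coe] at hmem
    obtain ⟨e, he, hle⟩ := Ideal.exists_minimalPrimes_le hmem
    obtain ⟨q, hq, hqe⟩ := Ideal.exists_comap_eq_of_mem_minimalPrimes f' (I := ⊥) e (by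
      simpa [RingHom.ker_eq_comap_bot] using he)
    haveI : e.IsPrime := he.1.1
    have heE : (⟨e, inferInstance⟩ : PrimeSpectrum B) ∈ closure E \ E := by
      rw [← hf']; exact ⟨⟨q, hq⟩, PrimeSpectrum.ext hqe.2⟩
    have hIe : I ≤ e := by
      have := heE.1
      rw [hcl] at this
      exact SetLike.coe_subset_coe.mp ((mem_zeroLocus _ _).mp this)
    have : e = Q := le_antisymm hle (hQ.2 ⟨inferInstance, hIe⟩ hle)
    subst this
    exact heE.2 (hmin e hQ _)
  obtain ⟨b, hbF, hbQ⟩ : ∃ b ∈ vanishingIdeal F, ∀ Q ∈ I.minimalPrimes, b ∉ Q := by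
    by_contra H
    push_neg at H
    have hfin : I.minimalPrimes.Finite := I.finite_minimalPrimes_of_isNoetherianRing
    have hsub : (vanishingIdeal F : Set B) ⊆ ⋃ Q ∈ hfin.toFinset, (id Q : Ideal B) := fun x hx => by
      obtain ⟨Q, hQ, hxQ⟩ := H x hx
      exact Set.mem_biUnion (hfin.mem_toFinset.2 hQ) hxQ
    obtain ⟨Q, hQ, hle⟩ := (Ideal.subset_union_prime ⊥ ⊥
      (fun Q hQ _ _ => (hfin.mem_toFinset.1 hQ).1.1)).1 hsub
    haveI hQp : Q.IsPrime := (hfin.mem_toFinset.1 hQ).1.1
    refine hminF Q (hfin.mem_toFinset.1 hQ) hQp ?_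
    rw [← (show IsClosed F from isClosed_closure).closure_eq, ← zeroLocus_vanishingIdeal_eq_closure,
      mem_zeroLocus, SetLike.coe_subset_coe]
    exact hle
  let B' := B ⧸ I
  haveI : IsReduced B' := (Ideal.isRadical_iff_quotient_reduced I).1 (Ideal.radical_isRadical _)
  have hbreg : Ideal.Quotient.mk I b ∈ nonZeroDivisors B' := by
    rw [mem_nonZeroDivisors_iff_right]
    intro x hx
    obtain ⟨x, rfl⟩ := Ideal.Quotient.mk_surjective x
    rw [← map_mul, Ideal.Quotient.eq_zero_iff_mem] at hx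
    have hrad : I.radical = I := (Ideal.radical_isRadical (RingHom.ker f)).radical
    rw [Ideal.Quotient.eq_zero_iff_mem, ← hrad, ← Ideal.sInf_minimalPrimes, Submodule.mem_sInf]
    intro Q hQ
    exact (hQ.1.1.mem_or_mem (hQ.1.2 hx)).resolve_right (hbQ Q hQ)
  let C := B' ⧸ Ideal.span {Ideal.Quotient.mk I b}
  obtain ⟨a, -, ha, hfree⟩ := FlatMisc.GenericFree.genFree (R := A) C C 1 one_ne_zero
  refine ⟨a, ha, fun z hz haz => ?_⟩
  by_cases hbz : b ∈ z.asIdeal
  swap
  · refine ⟨z, by_contra fun hzE => hbz ?_, specializes_refl _, rfl⟩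
    exact (mem_vanishingIdeal _ _).mp hbF z (subset_closure ⟨hz, hzE⟩)
  have hIz : I ≤ z.asIdeal := by
    rw [hcl] at hz
    exact SetLike.coe_subset_coe.mp ((mem_zeroLocus _ _).mp hz)
  let R := Localization.Away a
  haveI : Module.Flat A R := IsLocalization.flat R (Submonoid.powers a)
  haveI := hfree.free_tensor
  have hflat : Module.Flat A (R ⊗[A] C) := Module.Flat.trans A R (R ⊗[A] C)
  haveI : (z.asIdeal.map (Ideal.Quotient.mk I)).IsPrime :=
    Ideal.map_isPrime_of_surjective Ideal.Quotient.mk_surjective (by simpa using hIz)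
  have hQc : (z.asIdeal.map (Ideal.Quotient.mk I)).comap (Ideal.Quotient.mk I) = z.asIdeal := by
    rw [Ideal.comap_map_of_surjective _ Ideal.Quotient.mk_surjective]
    simp [← RingHom.ker_eq_comap_bot, hIz]
  set Q' := z.asIdeal.map (Ideal.Quotient.mk I)
  have hunder : Q'.under A = (z.comap (algebraMap A B)).asIdeal := by
    rw [Ideal.under_def, show algebraMap A B' = (Ideal.Quotient.mk I).comp (algebraMap A B) from rfl,
      ← Ideal.comap_comap, hQc]
    rfl
  have hu : IsUnit (algebraMap A (Q'.under A).ResidueField a) := by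
    rw [isUnit_iff_ne_zero, Ne, Ideal.algebraMap_residueField_eq_zero, hunder]
    exact haz
  let φ : R →ₐ[A] (Q'.under A).ResidueField :=
    IsLocalization.liftAlgHom (M := Submonoid.powers a) (f := Algebra.ofId A _)
      (fun y => by
        obtain ⟨_, n, rfl⟩ := y
        show IsUnit (algebraMap A (Q'.under A).ResidueField (a ^ n))
        rw [map_pow]; exact hu.pow n)
  obtain ⟨P, hP, hPQ, hPA, hPb⟩ := exists_le_notMem_fibre R hbreg hflat Q' φ
  let z' : PrimeSpectrum B := ⟨P.comap (Ideal.Quotient.mk I), inferInstance⟩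
  have hz'cl : z' ∈ closure E := by
    rw [hcl, mem_zeroLocus, SetLike.coe_subset_coe]
    exact fun x hx => by simp [z', Ideal.Quotient.eq_zero_iff_mem.mpr hx]
  refine ⟨z', by_contra fun h => hPb ?_, ?_, ?_⟩
  · exact (mem_vanishingIdeal _ _).mp hbF z' (subset_closure ⟨hz'cl, h⟩)
  · rw [← PrimeSpectrum.le_iff_specializes]
    show P.comap (Ideal.Quotient.mk I) ≤ z.asIdeal
    rw [← hQc]; exact Ideal.comap_mono hPQ
  · refine PrimeSpectrum.ext ?_
    rw [← hunder, ← hPA]
    show (P.comap (Ideal.Quotient.mk I)).comap (algebraMap A B) = _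
    rw [Ideal.comap_comap]; rfl

end Groth.Agent.FibTop
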