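import Groth.Agent.FibTop.Props
import Groth.Agent.LimLib.Proper
import Groth.Agent.LimLib.ClosedAvoid
import Groth.Agent.EGA43Lim.Basic
import Mathlib.AlgebraicGeometry.Morphisms.FlatDescent
import Mathlib.AlgebraicGeometry.AffineSpace

/-!
Constructibility of the locus where the fibre map is universally closed, proper, finite or a closed
immersion (EGA IV 9.6.1).
-/

set_option autoImplicit false
set_option backward.isDefEq.respectTransparency false

universe u

open CategoryTheory CategoryTheory.Limits AlgebraicGeometry Topology Set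

namespace Groth.Agent.FibTop

variable {X Y S : Scheme.{u}}

/-- A property which descends along limits and holds for the generic fibre map holds over a nonempty
open subset of the base. -/
theorem interior_of_generic (Q : MorphismProperty Scheme.{u}) [Q.IsStableUnderBaseChange]
    (hfs : ConsProp.IsFieldStableMor (EtStruct.relOf Q))
    (hd : LimLib.Descends.{u} Q @LocallyOfFiniteType)
    [IsIntegral S] [IsNoetherian S] (f : X ⟶ Y) (g : Y ⟶ S)
    [LocallyOfFiniteType g] [QuasiCompact g] [LocallyOfFiniteType (f ≫ g)] [QuasiCompact (f ≫ g)]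
    (hη : genericPoint S ∈ ConsProp.locusMor (EtStruct.relOf Q) f g) :
    (interior (ConsProp.locusMor (EtStruct.relOf Q) f g)).Nonempty := by
  set η := genericPoint S
  obtain ⟨_, ⟨V, hV, rfl⟩, hηV, -⟩ := S.isBasis_affineOpens.exists_subset_of_mem_open
    (Set.mem_univ η) isOpen_univ
  replace hV : IsAffineOpen V := hV
  let p := S.fromSpecResidueField η
  have hrange : Set.range p ⊆ Set.range hV.fromSpec := by
    rintro _ ⟨x, rfl⟩
    rw [IsAffineOpen.range_fromSpec, Scheme.fromSpecResidueField_apply]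
    exact hηV
  haveI : IsOpenImmersion hV.fromSpec := hV.isOpenImmersion_fromSpec
  haveI : IsNoetherianRing Γ(S, V) := IsLocallyNoetherian.component_noetherian ⟨V, hV⟩
  obtain ⟨φ, hφ⟩ := Spec.map_surjective (IsOpenImmersion.lift hV.fromSpec p hrange)
  obtain ⟨I, _, _, D, c, t, e, ⟨hc⟩, hD, ht, hce⟩ := ConsPairLib.exists_limit_presentation _ _ φ
  haveI : ∀ (i j : I) (f : i ⟶ j), IsAffineHom (D.map f) := fun i j f => by
    haveI := hD i; haveI := hD j; infer_instance
  haveI : ∀ i, CompactSpace (D.obj i) := fun i => by haveI := hD i; infer_instance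
  haveI : ∀ i, QuasiSeparatedSpace (D.obj i) := fun i => by haveI := hD i; infer_instance
  obtain ⟨i₀⟩ := IsCofiltered.nonempty (C := I)
  let a : ∀ i, D.obj i ⟶ S := fun i => t.app i ≫ hV.fromSpec
  have hp : ∀ i, e.hom ≫ c.π.app i ≫ a i = p := fun i => by
    simp only [a]
    rw [← Category.assoc (c.π.app i), ← Category.assoc e.hom, hce, hφ, IsOpenImmersion.lift_fac]
  haveI := hD i₀
  haveI := ht i₀
  haveI : LocallyOfFiniteType (a i₀) := inferInstance
  haveI : IsLocallyNoetherian (D.obj i₀) := LocallyOfFiniteType.isLocallyNoetherian (a i₀)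
  let g₀ : pullback g (a i₀) ⟶ D.obj i₀ := pullback.snd g (a i₀)
  let f₀ : pullback f (pullback.fst g (a i₀)) ⟶ pullback g (a i₀) := pullback.snd _ _
  have sY₀ : IsPullback (pullback.fst g (a i₀)) g₀ g (a i₀) := IsPullback.of_hasPullback _ _
  have sX₀ : IsPullback (pullback.fst f _) f₀ f (pullback.fst g (a i₀)) :=
    IsPullback.of_hasPullback _ _
  haveI : LocallyOfFiniteType g₀ :=
    MorphismProperty.of_isPullback (P := @LocallyOfFiniteType) sY₀ ‹_›
  haveI : QuasiCompact g₀ := MorphismProperty.of_isPullback (P := @QuasiCompact) sY₀ ‹_›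
  haveI : LocallyOfFiniteType (f₀ ≫ g₀) :=
    MorphismProperty.of_isPullback (P := @LocallyOfFiniteType) (sX₀.paste_vert sY₀) ‹_›
  haveI : QuasiCompact (f₀ ≫ g₀) :=
    MorphismProperty.of_isPullback (P := @QuasiCompact) (sX₀.paste_vert sY₀) ‹_›
  haveI : IsLocallyNoetherian ↑(pullback g (a i₀)) := LocallyOfFiniteType.isLocallyNoetherian g₀
  haveI : IsLocallyNoetherian ↑(pullback f (pullback.fst g (a i₀))) :=
    LocallyOfFiniteType.isLocallyNoetherian (f₀ ≫ g₀)
  haveI : LocallyOfFinitePresentation g₀ :=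
    LocallyOfFinitePresentation.iff_locallyOfFiniteType.2 ‹_›
  haveI : LocallyOfFinitePresentation (f₀ ≫ g₀) :=
    LocallyOfFinitePresentation.iff_locallyOfFiniteType.2 ‹_›
  let gc : g.fiber η ⟶ c.pt := g.fiberToSpecResidueField η ≫ e.hom
  have hYc : IsPullback (g.fiberι η) gc g (c.π.app i₀ ≫ a i₀) :=
    (IsPullback.of_hasPullback g p).of_iso (Iso.refl _) (Iso.refl _) e (Iso.refl _)
      (by simp; rfl) (by simp [gc]; rfl) (by simp) (by simp [hp])
  let qY : g.fiber η ⟶ pullback g (a i₀) :=
    pullback.lift (g.fiberι η) (gc ≫ c.π.app i₀) (by rw [Category.assoc]; exact hYc.w)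
  have hY : IsPullback qY gc g₀ (c.π.app i₀) :=
    IsPullback.of_right (by simpa [qY] using hYc) (by simp [qY, g₀]) sY₀
  let qX : (f ≫ g).fiber η ⟶ pullback f (pullback.fst g (a i₀)) :=
    pullback.lift ((f ≫ g).fiberι η) (MoreMor.fiberMap f g η ≫ qY)
      (by rw [Category.assoc, pullback.lift_fst]; exact (ConsPropLib.fiberMap_ι f g η).symm)
  have hX : IsPullback qX (MoreMor.fiberMap f g η) f₀ qY :=
    IsPullback.of_right (by simpa [qX, qY] using ConsPropLib.isPullback_fiberMap f g η)
      (by simp [qX, f₀]) sX₀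
  obtain ⟨i, χ, Xi, Yi, fi, gi, pY, pX, iY, iX, hQi⟩ := EGA43Lim.exists_stage_fp hc hY hX hd
    (fun a ha => inferInstance) hη
  have hai : D.map χ ≫ a i₀ = a i := by simp [a]
  have jY := iY.paste_horiz sY₀
  have jX := iX.paste_horiz sX₀
  rw [hai] at jY
  haveI := hD i
  haveI := ht i
  haveI : LocallyOfFiniteType (a i) := inferInstance
  haveI : IsLocallyNoetherian (D.obj i) := LocallyOfFiniteType.isLocallyNoetherian (a i)
  haveI : AlgebraicGeometry.IsNoetherian (D.obj i) := ⟨⟩
  haveI : QuasiCompact (a i) := inferInstance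
  haveI : LocallyOfFinitePresentation (a i) :=
    LocallyOfFinitePresentation.iff_locallyOfFiniteType.2 ‹_›
  have hsub : Set.range (a i) ⊆ ConsProp.locusMor (EtStruct.relOf Q) f g := by
    rintro _ ⟨b, rfl⟩
    have := ConsPropLib.locusMor_preimage hfs jY jX
    refine (Set.ext_iff.1 this b).1 ?_
    exact Q.of_isPullback (ConsPropLib.isPullback_fiberMap fi gi b) hQi
  have hmem : genericPoint S ∈ Set.range (a i) := by
    obtain ⟨x⟩ : Nonempty ↥(Spec (S.residueField η)) := inferInstance
    refine ⟨(e.hom ≫ c.π.app i) x, ?_⟩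
    rw [← Scheme.Hom.comp_apply, Category.assoc, hp, Scheme.fromSpecResidueField_apply]
  have hcons : IsConstructible (Set.range (a i)) := by
    rw [← Set.image_univ]
    exact (a i).isConstructible_image IsConstructible.univ
  obtain ⟨U, hU, hmemU, hUsub⟩ := ConsPropLib.exists_open_subset_of_generic hcons hmem
  exact ⟨_, interior_maximal (hUsub.trans hsub) hU hmemU⟩

/-- Being universally closed is a constructible property of morphisms of algebraic schemes. -/
theorem isConsMor_universallyClosed :
    ConsProp.IsConsMor (EtStruct.relOf (@UniversallyClosed : MorphismProperty Scheme.{u})) := by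
  have hfs := EtStruct.isFieldStableMor_relOf (@UniversallyClosed : MorphismProperty Scheme.{u})
  refine ⟨hfs, fun X Y S f g _ _ _ _ _ _ => ?_⟩
  set η := genericPoint S
  by_cases hη : η ∈ ConsProp.locusMor (EtStruct.relOf (@UniversallyClosed.{u})) f g
  · exact Or.inl (interior_of_generic _ hfs LimLib.descends_universallyClosed f g hη)
  refine Or.inr ?_
  haveI : LocallyOfFiniteType f := locallyOfFiniteType_of_comp f g
  haveI : IsLocallyNoetherian Y := LocallyOfFiniteType.isLocallyNoetherian g
  haveI : QuasiCompact f := QuasiCompact.of_comp f g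
  haveI : LocallyOfFinitePresentation f :=
    LocallyOfFinitePresentation.iff_locallyOfFiniteType.2 ‹_›
  haveI : LocallyOfFinitePresentation g :=
    LocallyOfFinitePresentation.iff_locallyOfFiniteType.2 ‹_›
  let m := MoreMor.fiberMap f g η
  haveI : QuasiCompact m :=
    MorphismProperty.of_isPullback (P := @QuasiCompact) (ConsPropLib.isPullback_fiberMap f g η) ‹_›
  have : ∃ n : ℕ, ¬ IsClosedMap (pullback.snd m (𝔸(ULift.{u} (Fin n); g.fiber η) ↘ g.fiber η)) := by
    by_contra H
    push_neg at H
    exact hη (LimLib.universallyClosed_of_isClosedMap_affineSpace m H)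
  obtain ⟨n, hn⟩ := this
  obtain ⟨Z, hZ, hZn⟩ : ∃ Z, IsClosed Z ∧
      ¬ IsClosed (pullback.snd m (𝔸(ULift.{u} (Fin n); g.fiber η) ↘ g.fiber η) '' Z) := by
    simpa [IsClosedMap] using hn
  let ι := ULift.{u} (Fin n)
  let pr : 𝔸(ι; Y) ⟶ Y := 𝔸(ι; Y) ↘ Y
  haveI : QuasiCompact pr := inferInstance
  haveI : LocallyOfFinitePresentation pr := inferInstance
  let f' : pullback f pr ⟶ 𝔸(ι; Y) := pullback.snd f pr
  let g' : 𝔸(ι; Y) ⟶ S := pr ≫ g
  haveI : LocallyOfFiniteType g' := inferInstance
  haveI : QuasiCompact g' := inferInstance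
  haveI : IsLocallyNoetherian 𝔸(ι; Y) := LocallyOfFiniteType.isLocallyNoetherian g'
  haveI : CompactSpace 𝔸(ι; Y) := QuasiCompact.compactSpace_of_compactSpace g'
  haveI : IsNoetherian 𝔸(ι; Y) := ⟨⟩
  haveI : IsLocallyNoetherian ↑(pullback f pr) := LocallyOfFiniteType.isLocallyNoetherian f'
  haveI : CompactSpace ↥(pullback f pr) := QuasiCompact.compactSpace_of_compactSpace f'
  haveI : IsNoetherian ↑(pullback f pr) := ⟨⟩
  haveI : LocallyOfFinitePresentation f' := inferInstance
  let j : 𝔸(ι; g.fiber η) ⟶ 𝔸(ι; Y) := AffineSpace.map ι (g.fiberι η)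
  have sj : IsPullback j (𝔸(ι; g.fiber η) ↘ g.fiber η) pr (g.fiberι η) :=
    AffineSpace.isPullback_map _
  haveI : IsPreimmersion j := MorphismProperty.of_isPullback (P := @IsPreimmersion) sj.flip
    (inferInstanceAs (IsPreimmersion (pullback.fst g (S.fromSpecResidueField η))))
  have hrange : range j = g' ⁻¹' {η} := by
    rw [← sj.isoPullback_hom_fst]
    simp only [Scheme.Hom.comp_base, TopCat.coe_comp]
    rw [Function.Surjective.range_comp sj.isoPullback.hom.surjective, Scheme.Pullback.range_fst,
      Scheme.Hom.range_fiberι]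
    rfl
  let m' := pullback.snd m (𝔸(ι; g.fiber η) ↘ g.fiber η)
  let k : pullback m (𝔸(ι; g.fiber η) ↘ g.fiber η) ⟶ pullback f pr :=
    pullback.map _ _ _ _ ((f ≫ g).fiberι η) j (g.fiberι η) (ConsPropLib.fiberMap_ι f g η)
      sj.w.symm
  have sk : IsPullback k m' f' j := by
    refine IsPullback.of_right ?_ (by simp [k, m', f']) (IsPullback.of_hasPullback f pr)
    have := (IsPullback.of_hasPullback m (𝔸(ι; g.fiber η) ↘ g.fiber η)).paste_horiz
      (ConsPropLib.isPullback_fiberMap f g η)
    rw [← sj.w] at this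
    simpa [k, m'] using this
  haveI : IsPreimmersion k := MorphismProperty.of_isPullback (P := @IsPreimmersion) sk.flip ‹_›
  let C := closure (k '' Z)
  let E : Set 𝔸(ι; Y) := f' '' C
  have hE : IsConstructible E :=
    f'.isConstructible_image (ConstrLib.isConstructible_of_isClosed isClosed_closure)
  have hk : ∀ w, f' (k w) = j (m' w) := fun w => by
    rw [← Scheme.Hom.comp_apply, sk.w]; rfl
  have hjE : j ⁻¹' E = m' '' Z := by
    ext z
    constructor
    · rintro ⟨x, hxC, hxz⟩
      obtain ⟨w, rfl⟩ : x ∈ range k := by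
        rw [← sk.isoPullback_hom_fst]
        simp only [Scheme.Hom.comp_base, TopCat.coe_comp]
        rw [Function.Surjective.range_comp sk.isoPullback.hom.surjective,
          Scheme.Pullback.range_fst]
        exact ⟨z, hxz.symm⟩
      have hw : w ∈ Z := by
        rw [← hZ.closure_eq, k.isEmbedding.closure_eq_preimage_closure_image]
        exact hxC
      exact ⟨w, hw, j.isEmbedding.injective ((hk w).symm.trans hxz)⟩
    · rintro ⟨w, hw, rfl⟩
      exact ⟨k w, subset_closure ⟨w, hw, rfl⟩, hk w⟩
  have hnot : η ∉ locus closedOp g' E E := by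
    rw [mem_locus_closed, ← isClosed_preimage_iff_of_isEmbedding j.isEmbedding hrange, hjE]
    exact hZn
  obtain ⟨U, T, hηU, hT, hU⟩ := gen_closedOp g' E E hE hE
  haveI : LocallyOfFinitePresentation g' :=
    LocallyOfFinitePresentation.iff_locallyOfFiniteType.2 ‹_›
  have hC : IsConstructible (g' '' T) := g'.isConstructible_image hT
  have key : ∀ s ∈ U, s ∈ locus closedOp g' E E ↔ s ∉ g' '' T := fun s hs =>
    ⟨fun H ⟨z, hzT, hzs⟩ => H z hzs ((hU s hs z hzs).2 hzT),
      fun H z hz hmem => H ⟨z, (hU s hs z hz).1 hmem, hz⟩⟩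
  have hηT : η ∈ g' '' T := by_contra fun h => hnot ((key η hηU).2 h)
  obtain ⟨O, hO, hmem, hsub⟩ := ConsPropLib.exists_open_subset_of_generic hC hηT
  refine ⟨η, interior_maximal
    (show O ∩ (U : Set S) ⊆ _ from fun s hs (hUC : UniversallyClosed (MoreMor.fiberMap f g s)) =>
      (key s hs.2).1 ?_ (hsub hs.1)) (hO.inter U.2) ⟨hmem, hηU⟩⟩
  -- over such a point the image of a closed subset would be closed
  rw [mem_locus_closed, ← isClosed_preimage_iff_of_isEmbedding (g'.fiberι s).isEmbedding
    (g'.range_fiberι s)]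
  have sq1 : IsPullback ((f' ≫ g').fiberι s ≫ pullback.fst f pr)
      (MoreMor.fiberMap f' g' s) f (g'.fiberι s ≫ pr) :=
    (ConsPropLib.isPullback_fiberMap f' g' s).paste_horiz (IsPullback.of_hasPullback f pr)
  have hfac : g'.fiberι s ≫ pr = MoreMor.fiberMap pr g s ≫ g.fiberι s :=
    (ConsPropLib.fiberMap_ι pr g s).symm
  rw [hfac] at sq1
  have sq0 := ConsPropLib.isPullback_fiberMap f g s
  let r := sq0.lift ((f' ≫ g').fiberι s ≫ pullback.fst f pr)
    (MoreMor.fiberMap f' g' s ≫ MoreMor.fiberMap pr g s)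
    (by rw [Category.assoc]; exact sq1.w)
  have sq2 : IsPullback r (MoreMor.fiberMap f' g' s) (MoreMor.fiberMap f g s)
      (MoreMor.fiberMap pr g s) :=
    IsPullback.of_right (by simpa [r] using sq1) (by simp [r]) sq0
  haveI : UniversallyClosed (MoreMor.fiberMap f' g' s) :=
    MorphismProperty.of_isPullback (P := @UniversallyClosed) sq2 hUC
  have e2 : g'.fiberι s ⁻¹' E = MoreMor.fiberMap f' g' s '' ((f' ≫ g').fiberι s ⁻¹' C) := by
    rw [← Scheme.image_preimage_eq_of_isPullback (ConsPropLib.isPullback_fiberMap f' g' s)]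
  rw [e2]
  exact (MoreMor.fiberMap f' g' s).isClosedMap _
    (isClosed_closure.preimage ((f' ≫ g').fiberι s).continuous)

variable (f : X ⟶ Y) (g : Y ⟶ S)
  [LocallyOfFinitePresentation g] [QuasiCompact g] [QuasiSeparated g]
  [LocallyOfFinitePresentation (f ≫ g)] [QuasiCompact (f ≫ g)] [QuasiSeparated (f ≫ g)]

theorem isLocallyConstructible_universallyClosedLocus :
    IsLocallyConstructible {s : S | UniversallyClosed (EGA43Fib.fmap f g s)} :=
  ConsPairLib.isLocallyConstructible_locusMor isConsMor_universallyClosed f g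

theorem isLocallyConstructible_properLocus :
    IsLocallyConstructible {s : S | IsProper (EGA43Fib.fmap f g s)} := by
  have e : {s : S | IsProper (EGA43Fib.fmap f g s)} =
      {s | IsSeparated (EGA43Fib.fmap f g s)} ∩ {s | UniversallyClosed (EGA43Fib.fmap f g s)} := by
    ext s
    haveI := locallyOfFiniteType_fmap f g s
    constructor
    · intro (h : IsProper _)
      exact ⟨h.toIsSeparated, h.toUniversallyClosed⟩
    · rintro ⟨(h1 : IsSeparated _), (h2 : UniversallyClosed _)⟩
      show IsProper _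
      exact { }
  rw [e]
  exact (isLocallyConstructible_separatedLocus f g).inter
    (isLocallyConstructible_universallyClosedLocus f g)

theorem isLocallyConstructible_finiteLocus :
    IsLocallyConstructible {s : S | IsFinite (EGA43Fib.fmap f g s)} := by
  have e : {s : S | IsFinite (EGA43Fib.fmap f g s)} =
      {s | IsProper (EGA43Fib.fmap f g s)} ∩ {s | LocallyQuasiFinite (EGA43Fib.fmap f g s)} :=
    Set.ext fun s => IsFinite.iff_isProper_and_locallyQuasiFinite ..
  rw [e]
  exact (isLocallyConstructible_properLocus f g).inter (isLocallyConstructible_quasiFiniteLocus f g)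

theorem isLocallyConstructible_closedImmersionLocus :
    IsLocallyConstructible {s : S | IsClosedImmersion (EGA43Fib.fmap f g s)} := by
  have e : {s : S | IsClosedImmersion (EGA43Fib.fmap f g s)} =
      {s | IsProper (EGA43Fib.fmap f g s)} ∩ {s | Mono (EGA43Fib.fmap f g s)} :=
    Set.ext fun s => IsClosedImmersion.iff_isProper_and_mono ..
  rw [e]
  exact (isLocallyConstructible_properLocus f g).inter (isLocallyConstructible_monoLocus f g)

end Groth.Agent.FibTop
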